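import Mathlib

namespace Cfsg.Agent.Lib.Helper6

theorem card_sl {F : Type*} [Field F] [Fintype F] {q : ℕ} (hF : Fintype.card F = q) (n : ℕ) (hn : 1 ≤ n) : (q - 1) * Nat.card (Matrix.SpecialLinearGroup (Fin n) F) = ∏ i : Fin n, (q ^ n - q ^ (i : ℕ)) := by
  classical
  subst hF
  rw [← Matrix.card_GL_field n]
  have : Nonempty (Fin n) := ⟨⟨0, hn⟩⟩
  have hsurj : Function.Surjective (Matrix.GeneralLinearGroup.det : GL (Fin n) F →* Fˣ) :=
    Matrix.GeneralLinearGroup.det_surjective
  have h1 : Nat.card (Matrix.GeneralLinearGroup.det : GL (Fin n) F →* Fˣ).ker *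
      Nat.card (Matrix.GeneralLinearGroup.det : GL (Fin n) F →* Fˣ).range = Nat.card (GL (Fin n) F) := by
    rw [← Subgroup.index_ker]
    exact Subgroup.card_mul_index _
  have h2 : Nat.card (Matrix.GeneralLinearGroup.det : GL (Fin n) F →* Fˣ).range = Fintype.card F - 1 := by
    rw [MonoidHom.range_eq_top.mpr hsurj, Subgroup.card_top, Nat.card_eq_fintype_card,
      Fintype.card_units]
  have h3 : Nat.card (Matrix.GeneralLinearGroup.det : GL (Fin n) F →* Fˣ).ker =
      Nat.card (Matrix.SpecialLinearGroup (Fin n) F) := by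
    refine (Nat.card_congr ?_).symm
    refine Equiv.ofBijective (fun A => ⟨Matrix.SpecialLinearGroup.toGL A, ?_⟩) ⟨?_, ?_⟩
    · rw [MonoidHom.mem_ker]
      apply Units.ext
      simp [Matrix.GeneralLinearGroup.det]
    · intro A B h
      have := congrArg Subtype.val h
      exact Matrix.SpecialLinearGroup.toGL_injective this
    · rintro ⟨g, hg⟩
      rw [MonoidHom.mem_ker] at hg
      have hdet : (g : Matrix (Fin n) (Fin n) F).det = 1 := by
        have := congrArg Units.val hg
        simpa [Matrix.GeneralLinearGroup.det] using this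
      refine ⟨⟨(g : Matrix (Fin n) (Fin n) F), hdet⟩, ?_⟩
      apply Subtype.ext
      apply Units.ext
      rfl
  rw [← h1, h2, h3, mul_comm]

theorem card_center_sl {F : Type*} [Field F] [Fintype F] {q : ℕ} (hF : Fintype.card F = q) (n : ℕ) (hn : 1 ≤ n) :
    Nat.card (Subgroup.center (Matrix.SpecialLinearGroup (Fin n) F)) = Nat.gcd n (q - 1) := by
  classical
  rw [Nat.card_congr (Matrix.SpecialLinearGroup.center_equiv_rootsOfUnity).toEquiv]
  simp only [Fintype.card_fin]
  rw [max_eq_left hn, rootsOfUnity_eq_ker, IsCyclic.card_powMonoidHom_ker, Nat.card_eq_fintype_card,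
    Fintype.card_units, hF, Nat.gcd_comm]

theorem card_psl {F : Type*} [Field F] [Fintype F] {q : ℕ} (hF : Fintype.card F = q) (n : ℕ) (hn : 1 ≤ n) : Nat.gcd n (q - 1) * ((q - 1) * Nat.card (Matrix.ProjectiveSpecialLinearGroup (Fin n) F)) = ∏ i : Fin n, (q ^ n - q ^ (i : ℕ)) := by
  classical
  rw [← card_sl hF n hn, ← card_center_sl hF n hn]
  have h1 : Nat.card (Subgroup.center (Matrix.SpecialLinearGroup (Fin n) F)) *
      Nat.card (Matrix.ProjectiveSpecialLinearGroup (Fin n) F) =
      Nat.card (Matrix.SpecialLinearGroup (Fin n) F) := by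
    rw [← Subgroup.index_eq_card]
    exact Subgroup.card_mul_index _
  rw [← h1]
  ring

end Cfsg.Agent.Lib.Helper6
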