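import Mathlib
import Cfsg.Agent.Lib.Helper10.BR0

/-!
S0999 piece BR-G8 (poster helper10): `|C_G(P)| = p = |P|` forces `C_G(P) = P`.
-/

set_option autoImplicit false

namespace Cfsg.Agent.Lib.Helper10.BR

/-- BR-G8 -/
theorem cent_eq {G : Type*} [Group G] [Finite G] (p : ℕ) [Fact p.Prime] (P : Sylow p G)
    (hP : Nat.card P = p)
    (hC : Nat.card (Subgroup.centralizer ((P : Subgroup G) : Set G)) = p) :
    Subgroup.centralizer ((P : Subgroup G) : Set G) = (P : Subgroup G) := by
  have hcyc : IsCyclic (P : Subgroup G) := isCyclic_of_prime_card hP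
  have hle : (P : Subgroup G) ≤ Subgroup.centralizer ((P : Subgroup G) : Set G) := by
    intro x hx
    rw [Subgroup.mem_centralizer_iff]
    intro y hy
    obtain ⟨g, hg⟩ := hcyc.exists_generator
    obtain ⟨i, hi⟩ := Subgroup.mem_zpowers_iff.mp (hg ⟨x, hx⟩)
    obtain ⟨j, hj⟩ := Subgroup.mem_zpowers_iff.mp (hg ⟨y, hy⟩)
    have hx' : x = (g : G) ^ i := by
      have := congrArg Subtype.val hi
      simpa using this.symm
    have hy' : y = (g : G) ^ j := by
      have := congrArg Subtype.val hj
      simpa using this.symm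
    rw [hx', hy', ← zpow_add, ← zpow_add, add_comm]
  exact (Subgroup.eq_of_le_of_card_ge hle (by rw [hC, hP])).symm

end Cfsg.Agent.Lib.Helper10.BR
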