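import Mathlib
import Cfsg.Agent.Lib.Helper23.Syl
import Cfsg.Agent.Lib.Helper23.SylInter

namespace Cfsg.Agent.Lib.Helper6

open Cfsg.Agent.Lib.Helper23

theorem equiv_alt_of_injective {G α : Type*} [Group G] [Finite G] [Fintype α] [DecidableEq α]
    (n : ℕ) (hα : Fintype.card α = n) (φ : G →* Equiv.Perm α) (hφ : Function.Injective φ)
    (hcard : 2 * Nat.card G = n.factorial) :
    Nonempty (G ≃* alternatingGroup (Fin n)) := by
  let e : α ≃ Fin n := Fintype.equivFinOfCardEq hα
  let ψ : G →* Equiv.Perm (Fin n) := (e.permCongrHom.toMonoidHom).comp φ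
  have hψ : Function.Injective ψ := e.permCongrHom.injective.comp hφ
  have hrange : ψ.range = alternatingGroup (Fin n) := by
    apply Equiv.Perm.eq_alternatingGroup_of_index_eq_two
    have h1 : Nat.card ψ.range = Nat.card G :=
      (Nat.card_congr (MonoidHom.ofInjective hψ).toEquiv).symm
    have h2 := Subgroup.card_mul_index ψ.range
    rw [h1, Nat.card_perm, Nat.card_fin, ← hcard] at h2
    have hpos : 0 < Nat.card G := Nat.card_pos
    have h3 : Nat.card G * ψ.range.index = Nat.card G * 2 := by rw [h2]; ring
    exact Nat.eq_of_mul_eq_mul_left hpos h3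
  exact ⟨(MonoidHom.ofInjective hψ).trans (MulEquiv.subgroupCongr hrange)⟩

/-- A simple group of order 60 with a proper subgroup of index at most 5 is `A₅`. -/
theorem equiv_alt_five_of_index {G : Type*} [Group G] [IsSimpleGroup G] (h : Nat.card G = 60)
    (H : Subgroup G) (hH : H ≠ ⊤) (hidx : H.index ≤ 5) :
    Nonempty (G ≃* alternatingGroup (Fin 5)) := by
  classical
  have hfin : Finite G := Nat.finite_of_card_ne_zero (by rw [h]; norm_num)
  have := Fintype.ofFinite (G ⧸ H)
  let φ : G →* Equiv.Perm (G ⧸ H) := MulAction.toPermHom G (G ⧸ H)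
  have hker : φ.ker ≠ ⊤ := by
    intro hk
    apply hH
    rw [← Subgroup.normalCore_eq_ker] at hk
    exact eq_top_iff.mpr (hk ▸ Subgroup.normalCore_le H)
  have hinj : Function.Injective φ :=
    (MonoidHom.ker_eq_bot_iff φ).mp ((φ.normal_ker.eq_bot_or_eq_top).resolve_right hker)
  have hc : Fintype.card (G ⧸ H) = H.index := by
    rw [← Nat.card_eq_fintype_card, Subgroup.index_eq_card]
  have hle : Nat.card G ≤ (H.index).factorial := by
    have := Nat.card_le_card_of_injective φ hinj
    rwa [Nat.card_perm, Nat.card_eq_fintype_card (α := G ⧸ H), hc] at this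
  have h5 : H.index = 5 := by
    rw [h] at hle
    have h0 : H.index ≠ 0 := Subgroup.index_ne_zero_of_finite
    generalize H.index = k at *
    interval_cases k <;> simp_all [Nat.factorial]
  exact equiv_alt_of_injective 5 (hc.trans h5) φ hinj (by rw [h]; rfl)

/-- Every simple group of order 60 is isomorphic to `A₅`. -/
theorem simple_card_sixty {G : Type*} [Group G] [IsSimpleGroup G] (h : Nat.card G = 60) :
    Nonempty (G ≃* alternatingGroup (Fin 5)) := by
  classical
  have hfin : Finite G := Nat.finite_of_card_ne_zero (by rw [h]; norm_num)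
  have hG : ¬ IsMulCommutative G := not_comm_of_simple_of_not_prime (by rw [h]; norm_num)
  have : Fact (Nat.Prime 2) := ⟨Nat.prime_two⟩
  have h60 : Nat.card G = 2 ^ 2 * 15 := by rw [h]; norm_num
  have hmem := card_sylow_mem_filter (G := G) (p := 2) h60 (by norm_num)
  have hne1 := simple_sylow_card_ne_one (G := G) (p := 2) h60 (by norm_num) (by norm_num)
    (by norm_num)
  rw [show (Nat.divisors 15).filter (fun d => d % 2 = 1) = {1, 3, 5, 15} from by decide] at hmem
  obtain ⟨P⟩ : Nonempty (Sylow 2 G) := inferInstance
  have hidxN : (Subgroup.normalizer ((P : Subgroup G) : Set G)).index = Nat.card (Sylow 2 G) :=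
    (Sylow.card_eq_index_normalizer P).symm
  have hNtop : Subgroup.normalizer ((P : Subgroup G) : Set G) ≠ ⊤ := by
    intro ht
    rw [ht, Subgroup.index_top] at hidxN
    exact hne1 hidxN.symm
  simp only [Finset.mem_insert, Finset.mem_singleton] at hmem
  rcases hmem with h1 | h3 | h5 | h15
  · exact absurd h1 hne1
  · exact equiv_alt_five_of_index h _ hNtop (by rw [hidxN, h3]; norm_num)
  · exact equiv_alt_five_of_index h _ hNtop (by rw [hidxN, h5])
  · have hmod : ¬ Nat.card (Sylow 2 G) ≡ 1 [MOD 2 ^ 2] := by
      rw [h15]; decide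
    obtain ⟨R, hPR, hRP⟩ := exists_sylow_pair_large_inter 2 2 hmod P
    have hP4 : Nat.card (P : Subgroup G) = 2 ^ 2 := sylow_card_of_eq h60 (by norm_num) P
    have hR4 : Nat.card (R : Subgroup G) = 2 ^ 2 := sylow_card_of_eq h60 (by norm_num) R
    have hPc : ∀ a b : (P : Subgroup G), a * b = b * a :=
      (IsPGroup.isMulCommutative_of_card_eq_prime_sq hP4).is_comm.comm
    have hRc : ∀ a b : (R : Subgroup G), a * b = b * a :=
      (IsPGroup.isMulCommutative_of_card_eq_prime_sq hR4).is_comm.comm
    set D : Subgroup G := (P : Subgroup G) ⊓ (R : Subgroup G) with hD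
    set C : Subgroup G := Subgroup.centralizer (D : Set G) with hC
    have hPC : (P : Subgroup G) ≤ C := by
      intro x hx
      rw [hC, Subgroup.mem_centralizer_iff]
      intro d hd
      have hdP : d ∈ (P : Subgroup G) := hd.1
      have := hPc ⟨d, hdP⟩ ⟨x, hx⟩
      exact congrArg Subtype.val this
    have hRC : (R : Subgroup G) ≤ C := by
      intro x hx
      rw [hC, Subgroup.mem_centralizer_iff]
      intro d hd
      have hdR : d ∈ (R : Subgroup G) := hd.2
      have := hRc ⟨d, hdR⟩ ⟨x, hx⟩
      exact congrArg Subtype.val this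
    have hDne : D ≠ ⊥ := by
      intro hbot
      have h1 : ((R : Subgroup G).subgroupOf (P : Subgroup G)).index = 4 := by
        have h2 := Subgroup.card_mul_index ((R : Subgroup G).subgroupOf (P : Subgroup G))
        have h3 : (R : Subgroup G).subgroupOf (P : Subgroup G) = ⊥ := by
          rw [Subgroup.subgroupOf_eq_bot, disjoint_iff, inf_comm]
          exact hbot
        rw [h3, Subgroup.card_bot, one_mul, hP4] at h2
        rw [h3]
        exact h2
      rw [h1] at hRP
      norm_num at hRP
    have hCtop : C ≠ ⊤ := by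
      intro ht
      have hDZ : D ≤ Subgroup.center G := by
        intro d hd
        rw [Subgroup.mem_center_iff]
        intro g
        have hg : g ∈ C := by rw [ht]; trivial
        rw [hC, Subgroup.mem_centralizer_iff] at hg
        exact (hg d hd).symm
      rcases (Subgroup.normal_of_characteristic (Subgroup.center G)).eq_bot_or_eq_top with hz | hz
      · rw [hz] at hDZ
        exact hDne (le_bot_iff.mp hDZ)
      · apply hG
        refine ⟨⟨fun a b => ?_⟩⟩
        have ha : a ∈ Subgroup.center G := by rw [hz]; trivial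
        exact (Subgroup.mem_center_iff.mp ha b).symm
    have hcardC : 4 ∣ Nat.card C := by
      have := Subgroup.card_dvd_of_le hPC
      rwa [hP4] at this
    have hCne4 : Nat.card C ≠ 4 := by
      intro h4
      have e1 : (P : Subgroup G) = C :=
        Subgroup.eq_of_le_of_card_ge hPC (by rw [h4, hP4]; norm_num)
      have e2 : (R : Subgroup G) = C :=
        Subgroup.eq_of_le_of_card_ge hRC (by rw [h4, hR4]; norm_num)
      exact hPR (Sylow.ext (e1.trans e2.symm))
    have hCdvd : Nat.card C ∣ 60 := h ▸ Subgroup.card_subgroup_dvd_card C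
    have hmul := Subgroup.card_mul_index C
    rw [h] at hmul
    have hCpos : 0 < Nat.card C := Nat.card_pos
    have hle : Nat.card C ≤ 60 := Nat.le_of_dvd (by norm_num) hCdvd
    have hidx : C.index ≤ 5 := by
      obtain ⟨c, hc⟩ := hcardC
      have hc15 : c ≤ 15 := by omega
      have hcpos : 0 < c := by omega
      by_contra hcon
      push Not at hcon
      have hi10 : C.index ≤ 60 := by
        have : C.index ∣ 60 := h ▸ Subgroup.index_dvd_card C
        exact Nat.le_of_dvd (by norm_num) this
      rw [hc] at hmul
      have hc1 : c ≠ 1 := by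
        intro h1; apply hCne4; rw [hc, h1]
      generalize C.index = i at *
      interval_cases c <;> interval_cases i <;> omega
    exact equiv_alt_five_of_index h C hCtop hidx

end Cfsg.Agent.Lib.Helper6
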