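import Mathlib
import Cfsg.Agent.Lib.Helper25.InvDefs

/-!
# Piece IA: a conjugate of `t` in a Bruhat cell of maximal length, in the form `u * n`
-/

set_option autoImplicit false

namespace Cfsg.Agent.Lib.Helper25

open Cfsg Cfsg.Agent.Lib.Helper8

section Abstract

variable {G : Type*} [Group G]

/-- IA -/
theorem inv_exists_max [Finite G] (P : BNPair G) (U : Subgroup G)
    (hBU : ∀ b ∈ P.B, ∃ u ∈ U, ∃ h ∈ P.B ⊓ P.N, b = u * h) (t : G) :
    ∃ (g u : G) (n : P.N), u ∈ U ∧ g * t * g⁻¹ = u * (n : G) ∧ MaxCell P t n := by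
  classical
  -- the set of Weyl classes of cells met by conjugates of `t`
  let A : Set (W P) := {w | ∃ (g : G) (n' : P.N), g * t * g⁻¹ ∈ dc P (n' : G) ∧ cl P n' = w}
  have hAne : A.Nonempty := by
    obtain ⟨n, hn, hmem⟩ := bruhat P t
    refine ⟨cl P ⟨n, hn⟩, 1, ⟨n, hn⟩, ?_, rfl⟩
    simpa using hmem
  obtain ⟨w, hwA, hwmax⟩ := Set.exists_max_image A (len (SW P)) (Set.toFinite A) hAne
  obtain ⟨g0, n0, hmem, rfl⟩ := hwA
  obtain ⟨b1, hb1, b2, hb2, hb⟩ := mem_dc.1 hmem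
  obtain ⟨u, hu, h, hh, hbu⟩ := hBU (b2 * b1) (P.B.mul_mem hb2 hb1)
  have hhN : h ∈ P.N := hh.2
  have hhB : h ∈ P.B := hh.1
  let hN : P.N := ⟨h, hhN⟩
  refine ⟨b2 * g0, u, hN * n0, hu, ?_, ?_⟩
  · have h1 : b2 * g0 * t * (b2 * g0)⁻¹ = b2 * (g0 * t * g0⁻¹) * b2⁻¹ := by group
    rw [h1, hb]
    have h2 : b2 * (b1 * (n0 : G) * b2) * b2⁻¹ = (b2 * b1) * (n0 : G) := by group
    rw [h2, hbu]
    simp [hN, mul_assoc]
  · have hcl : cl P (hN * n0) = cl P n0 := by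
      rw [cl_mul]
      have : cl P hN = 1 := cl_eq_one_iff.2 hhB
      rw [this, one_mul]
    intro g n' hgn'
    rw [hcl]
    exact hwmax (cl P n') ⟨g, n', hgn', rfl⟩

end Abstract

end Cfsg.Agent.Lib.Helper25
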