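import Mathlib
import Cfsg.Agent.Lib.Helper25.ChevOrderFinal
import Cfsg.Agent.Lib.Helper25.InvChevDefs

/-!
# Piece CC: every element of `N` is `h * nWordMat v` with `v` among `allWords levels`
-/

set_option autoImplicit false

namespace Cfsg.Agent.Lib.Helper25

open Cfsg Cfsg.Lie Matrix
open Cfsg.Agent.Lib.Helper8 Cfsg.Agent.Lib.Helper24

section

variable {F : Type*} [Field F]

/-- CC -/
theorem inv_chev_word (D : ChevalleyDatum)
    (hD : D ∈ [chevG2, chevB2, chevD4, chevF4, chevE6, chevE7, chevE8]) {l : ℕ}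
    (M : CoxeterMatrix (Fin l)) (hl : D.rank = l)
    (hweyl : ∃ φ : ↥(D.monomialSubgroup F) →* M.Group, Function.Surjective φ ∧
      φ.ker = (D.diagonalSubgroup F).subgroupOf (D.monomialSubgroup F) ∧
      ∀ (i : Fin l) (g : ↥(D.monomialSubgroup F)),
        ((g : GL D.Idx F) : Matrix D.Idx D.Idx F) = D.nMat F (D.simple i) 1 →
          φ g = M.simple i)
    (ML : List (List ℕ)) (cart : List (List ℤ)) (levels : List LevelData)
    (hlen : levels.length = l) (hM : ∀ i j : Fin l, M i j = tbl ML i j)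
    (hchain : chainOK ML cart l 0 levels = true)
    (hpos : posChkAll D 0 levels = true)
    (n : GL D.Idx F) (hn : n ∈ D.monomialSubgroup F) :
    ∃ v ∈ allWords levels, (∀ i ∈ v, i < D.rank) ∧ ∃ h ∈ D.diagonalSubgroup F,
      (n : Matrix D.Idx D.Idx F) = (h : Matrix D.Idx D.Idx F) * nWordMat F D v := by
  subst hl
  obtain ⟨φ, _, hker, hφ⟩ := hweyl
  have hφw : ∀ L : List ℕ, (∀ i ∈ L, i < D.rank) →
      φ (nWordN F D hD L) = wprod (sOf M) L := by
    intro L hL
    induction L with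
    | nil =>
      rw [wprod_nil]
      exact map_one φ
    | cons i L ih =>
      have hi := hL i (by simp)
      rw [nWordN_cons, map_mul, ih (fun j hj => hL j (by simp [hj])), wprod_cons]
      congr 1
      rw [hφ ⟨i, hi⟩ _ (nSimple_val D hD i hi)]
      simp [sOf, hi]
  obtain ⟨v, hv, hvw⟩ := coxeter_allWords M ML cart levels hlen hM hchain (φ ⟨n, hn⟩)
  have hvr : ∀ i ∈ v, i < D.rank :=
    ((allWords_sum D hD 0 levels 0 (by rw [hlen]; omega) hpos).1 v hv).1
  refine ⟨v, hv, hvr, ?_⟩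
  have hk : (⟨n, hn⟩ : ↥(D.monomialSubgroup F)) * (nWordN F D hD v)⁻¹ ∈ φ.ker := by
    rw [MonoidHom.mem_ker, map_mul, map_inv, hφw v hvr, hvw, mul_inv_cancel]
  rw [hker, Subgroup.mem_subgroupOf] at hk
  refine ⟨_, hk, ?_⟩
  rw [← nWordN_val D hD v hvr]
  simp only [Subgroup.coe_mul, Subgroup.coe_inv, Units.val_mul]
  rw [Matrix.mul_assoc, ← Units.val_mul, inv_mul_cancel, Units.val_one, Matrix.mul_one]

end

end Cfsg.Agent.Lib.Helper25
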