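import Cfsg.Agent.Lib.Helper6.ArHzPerm

/-!
Averaging the agreement count of `h σ h⁻¹` and `ρ` over the even permutations `h`
(helper6, for S2271).
-/

set_option autoImplicit false

namespace Cfsg.Agent.Lib.Helper6.ArHz

open Equiv Finset

variable {α : Type*} [Fintype α] [DecidableEq α]

/-- The finset of even permutations. -/
def EvenP (α : Type*) [Fintype α] [DecidableEq α] : Finset (Perm α) :=
  Finset.univ.filter fun h => Perm.sign h = 1

/-- The number of even permutations with two prescribed values. -/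
def N2 (s s' y y' : α) : ℕ := ((EvenP α).filter fun h => h s = y ∧ h s' = y').card

theorem N2_le (hn : 4 ≤ Fintype.card α) {s s' y y' s₀ s₀' y₀ y₀' : α} (hs : s ≠ s')
    (hy : y ≠ y') (hs₀ : s₀ ≠ s₀') (hy₀ : y₀ ≠ y₀') : N2 s s' y y' ≤ N2 s₀ s₀' y₀ y₀' := by
  obtain ⟨g₁, hg₁, hg₁'⟩ := exists_even_perm_list [(s₀, s), (s₀', s')] (by simp [hs₀])
    (by simp [hs]) (by simpa using hn)
  obtain ⟨g₂, hg₂, hg₂'⟩ := exists_even_perm_list [(y, y₀), (y', y₀')] (by simp [hy])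
    (by simp [hy₀]) (by simpa using hn)
  have a1 : g₁ s₀ = s := hg₁' (s₀, s) (by simp)
  have a2 : g₁ s₀' = s' := hg₁' (s₀', s') (by simp)
  have b1 : g₂ y = y₀ := hg₂' (y, y₀) (by simp)
  have b2 : g₂ y' = y₀' := hg₂' (y', y₀') (by simp)
  unfold N2
  refine Finset.card_le_card_of_injOn (fun h => g₂ * h * g₁) ?_ ?_
  · intro h hh
    rw [Finset.mem_coe, Finset.mem_filter] at hh ⊢
    simp only [EvenP, Finset.mem_filter, Finset.mem_univ, true_and] at hh ⊢
    refine ⟨by rw [Perm.sign_mul, Perm.sign_mul, hg₁, hg₂, hh.1]; rfl, ?_, ?_⟩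
    · simp [a1, hh.2.1, b1]
    · simp [a2, hh.2.2, b2]
  · intro h _ h' _ e
    simpa using e

theorem N2_eq (hn : 4 ≤ Fintype.card α) {s s' y y' s₀ s₀' y₀ y₀' : α} (hs : s ≠ s')
    (hy : y ≠ y') (hs₀ : s₀ ≠ s₀') (hy₀ : y₀ ≠ y₀') : N2 s s' y y' = N2 s₀ s₀' y₀ y₀' :=
  le_antisymm (N2_le hn hs hy hs₀ hy₀) (N2_le hn hs₀ hy₀ hs hy)

theorem card_EvenP (hn : 4 ≤ Fintype.card α) {s₀ s₀' y₀ y₀' : α} (hs₀ : s₀ ≠ s₀')
    (hy₀ : y₀ ≠ y₀') :
    (EvenP α).card =
      (Fintype.card α * Fintype.card α - Fintype.card α) * N2 s₀ s₀' y₀ y₀' := by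
  have H : ∀ h ∈ EvenP α, (fun h : Perm α => (h s₀, h s₀')) h ∈
      (Finset.univ : Finset α).offDiag := by
    intro h _
    simp [hs₀]
  rw [Finset.card_eq_sum_card_fiberwise H]
  rw [Finset.sum_congr rfl (g := fun _ => N2 s₀ s₀' y₀ y₀')]
  · rw [Finset.sum_const, Finset.offDiag_card, smul_eq_mul, Finset.card_univ]
  · intro p hp
    rw [Finset.mem_offDiag] at hp
    have : (EvenP α).filter (fun h => (h s₀, h s₀') = p) =
        (EvenP α).filter (fun h => h s₀ = p.1 ∧ h s₀' = p.2) := by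
      ext h
      simp [Prod.ext_iff]
    rw [this]
    exact N2_eq hn hs₀ hp.2.2 hs₀ hy₀

theorem B_le (hn : 4 ≤ Fintype.card α) (σ ρ : Perm α)
    (hρ : ∀ w₁ w₂, ρ w₁ = w₁ → ρ w₂ = w₂ → w₁ = w₂) {s₀ s₀' y₀ y₀' : α} (hs₀ : s₀ ≠ s₀')
    (hy₀ : y₀ ≠ y₀') (s : α) :
    ((EvenP α).filter fun h => h (σ s) = ρ (h s)).card ≤
      Fintype.card α * N2 s₀ s₀' y₀ y₀' := by
  by_cases hs : σ s = s
  · rw [hs]
    by_cases hemp : ((EvenP α).filter fun h => h s = ρ (h s)) = ∅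
    · rw [hemp]
      simp
    · obtain ⟨h₀, hh₀⟩ := Finset.nonempty_iff_ne_empty.2 hemp
      rw [Finset.mem_filter] at hh₀
      have hw : ρ (h₀ s) = h₀ s := hh₀.2.symm
      obtain ⟨s', hs'⟩ : ∃ s', s' ∉ ({s} : Finset α) :=
        exists_notMem_of_card_lt _ (by rw [Finset.card_singleton]; omega)
      rw [Finset.mem_singleton] at hs'
      rw [Finset.card_eq_sum_card_fiberwise (f := fun h : Perm α => h s') (t := Finset.univ)
        (fun _ _ => Finset.mem_univ _)]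
      calc _ ≤ ∑ _y' : α, N2 s₀ s₀' y₀ y₀' := Finset.sum_le_sum (fun y' _ => ?_)
        _ = Fintype.card α * N2 s₀ s₀' y₀ y₀' := by simp
      by_cases hy' : y' = h₀ s
      · have : (filter (fun h : Perm α => h s' = y')
            (filter (fun h : Perm α => h s = ρ (h s)) (EvenP α))) = ∅ := by
          rw [Finset.eq_empty_iff_forall_notMem]
          intro h hh
          simp only [Finset.mem_filter] at hh
          have e1 : h s = h₀ s := hρ _ _ hh.1.2.symm hw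
          have e2 : h s' = h s := by rw [hh.2, hy', e1]
          exact hs' (h.injective e2)
        rw [this]
        simp
      · calc _ ≤ N2 s s' (h₀ s) y' := Finset.card_le_card (by
              intro h hh
              simp only [Finset.mem_filter] at hh ⊢
              exact ⟨hh.1.1, hρ _ _ hh.1.2.symm hw, hh.2⟩)
          _ = N2 s₀ s₀' y₀ y₀' := N2_eq hn (Ne.symm hs') (Ne.symm hy') hs₀ hy₀
  · rw [Finset.card_eq_sum_card_fiberwise (f := fun h : Perm α => h s) (t := Finset.univ)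
      (fun _ _ => Finset.mem_univ _)]
    calc _ ≤ ∑ _y : α, N2 s₀ s₀' y₀ y₀' := Finset.sum_le_sum (fun y _ => ?_)
      _ = Fintype.card α * N2 s₀ s₀' y₀ y₀' := by simp
    by_cases hy : ρ y = y
    · have : (filter (fun h : Perm α => h s = y)
          (filter (fun h : Perm α => h (σ s) = ρ (h s)) (EvenP α))) = ∅ := by
        rw [Finset.eq_empty_iff_forall_notMem]
        intro h hh
        simp only [Finset.mem_filter] at hh
        have e2 : h (σ s) = h s := by rw [hh.1.2, hh.2, hy]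
        exact hs (h.injective e2)
      rw [this]
      simp
    · calc _ ≤ N2 s (σ s) y (ρ y) := Finset.card_le_card (by
            intro h hh
            simp only [Finset.mem_filter] at hh ⊢
            exact ⟨hh.1.1, hh.2, by rw [hh.1.2, hh.2]⟩)
        _ = N2 s₀ s₀' y₀ y₀' := N2_eq hn (Ne.symm hs) (Ne.symm hy) hs₀ hy₀

theorem sum_ag_lt (hn : 5 ≤ Fintype.card α) (σ ρ : Perm α)
    (hρ : ∀ w₁ w₂, ρ w₁ = w₁ → ρ w₂ = w₂ → w₁ = w₂) :
    ∑ h ∈ EvenP α, ag (h * σ * h⁻¹) ρ < 2 * (EvenP α).card := by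
  obtain ⟨s₀, s₀', hs₀⟩ : ∃ s₀ s₀' : α, s₀ ≠ s₀' :=
    Fintype.exists_pair_of_one_lt_card (by omega)
  have hE := card_EvenP (α := α) (by omega) hs₀ hs₀
  have hpos : 0 < (EvenP α).card := Finset.card_pos.2 ⟨1, by simp [EvenP]⟩
  have hk₂ : 0 < N2 s₀ s₀' s₀ s₀' := by
    by_contra h
    have h0 : N2 s₀ s₀' s₀ s₀' = 0 := by omega
    rw [h0, Nat.mul_zero] at hE
    omega
  have h1 : ∀ h : Perm α, ag (h * σ * h⁻¹) ρ =
      (Finset.univ.filter fun s => h (σ s) = ρ (h s)).card := by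
    intro h
    unfold ag
    refine Finset.card_equiv h⁻¹ ?_
    intro x
    rw [Finset.mem_filter, Finset.mem_filter]
    simp
  have h2 : ∑ h ∈ EvenP α, ag (h * σ * h⁻¹) ρ =
      ∑ s : α, ((EvenP α).filter fun h => h (σ s) = ρ (h s)).card := by
    simp_rw [h1, Finset.card_filter]
    rw [Finset.sum_comm]
  rw [h2, hE]
  have hle : ∑ s : α, ((EvenP α).filter fun h => h (σ s) = ρ (h s)).card ≤
      Fintype.card α * (Fintype.card α * N2 s₀ s₀' s₀ s₀') := by
    calc _ ≤ ∑ _s : α, Fintype.card α * N2 s₀ s₀' s₀ s₀' :=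
          Finset.sum_le_sum (fun s _ => B_le (by omega) σ ρ hρ hs₀ hs₀ s)
      _ = _ := by simp
  refine lt_of_le_of_lt hle ?_
  generalize N2 s₀ s₀' s₀ s₀' = k at hk₂
  obtain ⟨m, hm⟩ : ∃ m, Fintype.card α = m + 5 := ⟨Fintype.card α - 5, by omega⟩
  rw [hm]
  have e : (m + 5) * (m + 5) - (m + 5) = (m + 5) * (m + 4) := by
    have : (m + 5) * (m + 5) = (m + 5) * (m + 4) + (m + 5) := by ring
    omega
  rw [e]
  nlinarith [Nat.mul_pos (Nat.succ_pos (m + 4)) hk₂, Nat.zero_le (m * k)]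

/-- If `ρ` has at most one fixed point and some even conjugate of `σ` agrees with `ρ` at two
points, then the agreement count is not constant. -/
theorem NC_of_two_le (hn : 5 ≤ Fintype.card α) (σ ρ : Perm α)
    (hρ : ∀ w₁ w₂, ρ w₁ = w₁ → ρ w₂ = w₂ → w₁ = w₂) (h₀ : Perm α)
    (hh₀ : Perm.sign h₀ = 1) (h2 : 2 ≤ ag (h₀ * σ * h₀⁻¹) ρ) : NC σ ρ := by
  by_contra hNC
  have hconst : ∀ h ∈ EvenP α, ag (h * σ * h⁻¹) ρ = ag (h₀ * σ * h₀⁻¹) ρ := by
    intro h hh
    by_contra hne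
    exact hNC ⟨h, h₀, (by simpa [EvenP] using hh), hh₀, hne⟩
  have := sum_ag_lt hn σ ρ hρ
  rw [Finset.sum_congr rfl hconst, Finset.sum_const, smul_eq_mul] at this
  nlinarith

end Cfsg.Agent.Lib.Helper6.ArHz
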