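import Cfsg.Agent.Lib.Helper6.ArHzAvg

/-!
The agreement count of `h σ h⁻¹` and `ρ` is not constant over even `h`, for non-identity
permutations `σ`, `ρ` of at least five points (helper6, for S2271).
-/

set_option autoImplicit false

namespace Cfsg.Agent.Lib.Helper6.ArHz

open Equiv Finset

variable {α : Type*} [Fintype α] [DecidableEq α]

omit [Fintype α] [DecidableEq α] in
theorem nodup2 {a b : α} (hab : a ≠ b) : [a, b].Nodup := by simp [hab]

omit [Fintype α] [DecidableEq α] in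
theorem nodup3 {a b c : α} (hab : a ≠ b) (hac : a ≠ c) (hbc : b ≠ c) : [a, b, c].Nodup := by
  simp [hab, hac, hbc]

omit [Fintype α] [DecidableEq α] in
theorem nodup4 {a b c d : α} (hab : a ≠ b) (hac : a ≠ c) (had : a ≠ d) (hbc : b ≠ c)
    (hbd : b ≠ d) (hcd : c ≠ d) : [a, b, c, d].Nodup := by
  simp [hab, hac, had, hbc, hbd, hcd]

omit [Fintype α] [DecidableEq α] in
theorem conj_apply (k σ : Perm α) (y : α) : (k * σ * k⁻¹) (k y) = k (σ y) := by simp

omit [Fintype α] [DecidableEq α] in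
theorem perm_apply_inv (σ : Perm α) (y : α) : σ (σ⁻¹ y) = y := by simp

omit [Fintype α] [DecidableEq α] in
theorem exists_moved (σ : Perm α) (h : σ ≠ 1) : ∃ p, σ p ≠ p := by
  by_contra hcon
  apply h
  ext x
  by_contra hx
  exact hcon ⟨x, hx⟩

/-- Moving a fixed point of `σ'` onto a point where it then agrees with `ρ`. -/
theorem ag_lt_move (σ' ρ : Perm α) (s u x : α) (h1 : σ' s = ρ u) (h2 : σ' x = s)
    (h3 : σ' u = u) (hsu : s ≠ u) (hu : ρ u ≠ u) (hx : ρ x ≠ s) (hxs : x ≠ s) :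
    ag σ' ρ < ag (swap s u * σ' * (swap s u)⁻¹) ρ := by
  unfold ag
  apply Finset.card_lt_card
  rw [Finset.ssubset_iff_of_subset]
  · refine ⟨u, ?_, ?_⟩
    · rw [Finset.mem_filter]
      refine ⟨Finset.mem_univ _, ?_⟩
      rw [Perm.mul_apply, Perm.mul_apply, swap_inv, swap_apply_right, h1]
      have hne : ρ u ≠ s := by
        intro h
        rw [h] at h1
        exact hxs (σ'.injective (h2.trans h1.symm))
      exact swap_apply_of_ne_of_ne hne hu
    · rw [Finset.mem_filter]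
      intro h
      rw [h3] at h
      exact hu h.2.symm
  · intro v hv
    rw [Finset.mem_filter] at hv ⊢
    refine ⟨Finset.mem_univ _, ?_⟩
    have hv' := hv.2
    have hvs : v ≠ s := by
      intro h
      rw [h, h1] at hv'
      exact hsu (ρ.injective hv').symm
    have hvu : v ≠ u := by
      intro h
      rw [h, h3] at hv'
      exact hu hv'.symm
    have hvx : v ≠ x := by
      intro h
      rw [h, h2] at hv'
      exact hx hv'.symm
    rw [Perm.mul_apply, Perm.mul_apply, swap_inv, swap_apply_of_ne_of_ne hvs hvu]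
    have e1 : σ' v ≠ s := fun h => hvx (σ'.injective (h.trans h2.symm))
    have e2 : σ' v ≠ u := fun h => hvu (σ'.injective (h.trans h3.symm))
    rw [swap_apply_of_ne_of_ne e1 e2]
    exact hv'

/-- If `σ` has two fixed points, the agreement count is not constant. -/
theorem NC_of_two_fixed (hn : 5 ≤ Fintype.card α) (σ ρ : Perm α) (hσ : σ ≠ 1) (hρ : ρ ≠ 1)
    (w₁ w₂ : α) (hw : w₁ ≠ w₂) (h1 : σ w₁ = w₁) (h2 : σ w₂ = w₂) : NC σ ρ := by
  obtain ⟨p, hp⟩ := exists_moved σ hσ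
  obtain ⟨u, hu⟩ := exists_moved ρ hρ
  have ht : Perm.sign (swap w₁ w₂) = -1 := Perm.sign_swap hw
  have hcomm : swap w₁ w₂ * σ = σ * swap w₁ w₂ := by
    have := Equiv.mul_swap_eq_swap_mul σ w₁ w₂
    rw [h1, h2] at this
    exact this.symm
  have hpw : p ≠ w₁ := fun h => hp (h ▸ h1)
  have hqw : σ p ≠ w₁ := by
    intro h
    rw [← h1] at h
    exact hpw (σ.injective h)
  have key : ∃ (k : Perm α) (s x : α), (k * σ * k⁻¹) s = ρ u ∧ (k * σ * k⁻¹) x = s ∧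
      (k * σ * k⁻¹) u = u ∧ s ≠ u ∧ ρ x ≠ s ∧ x ≠ s := by
    by_cases hq : σ (σ p) = p
    · obtain ⟨s, hs⟩ := exists_notMem_of_card_lt ({u, ρ u, ρ (ρ u)} : Finset α)
        (lt_of_le_of_lt Finset.card_le_three (by omega))
      simp only [Finset.mem_insert, Finset.mem_singleton, not_or] at hs
      obtain ⟨k, hk⟩ := exists_perm_list [(p, s), (σ p, ρ u), (w₁, u)]
        (nodup3 hp.symm hpw hqw) (nodup3 hs.2.1 hs.1 hu)
      have k1 : k p = s := hk (p, s) (by simp)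
      have k2 : k (σ p) = ρ u := hk (σ p, ρ u) (by simp)
      have k3 : k w₁ = u := hk (w₁, u) (by simp)
      refine ⟨k, s, ρ u, ?_, ?_, ?_, hs.1, fun h => hs.2.2 h.symm, fun h => hs.2.1 h.symm⟩
      · rw [← k1, conj_apply, k2]
      · rw [← k2, conj_apply, hq, k1]
      · rw [← k3, conj_apply, h1]
    · obtain ⟨s, hs⟩ := exists_notMem_of_card_lt ({u, ρ u} : Finset α)
        (lt_of_le_of_lt Finset.card_le_two (by omega))
      obtain ⟨x, hx⟩ := exists_notMem_of_card_lt ({s, u, ρ u, ρ⁻¹ s} : Finset α)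
        (lt_of_le_of_lt Finset.card_le_four (by omega))
      simp only [Finset.mem_insert, Finset.mem_singleton, not_or] at hs hx
      have f1 : p ≠ σ⁻¹ p := by
        intro h
        rw [Perm.eq_inv_iff_eq] at h
        exact hp h
      have f2 : σ p ≠ σ⁻¹ p := by
        intro h
        rw [Perm.eq_inv_iff_eq] at h
        exact hq h
      have f3 : σ⁻¹ p ≠ w₁ := by
        intro h
        rw [Perm.inv_eq_iff_eq, h1] at h
        exact hpw h
      obtain ⟨k, hk⟩ := exists_perm_list [(p, s), (σ p, ρ u), (σ⁻¹ p, x), (w₁, u)]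
        (nodup4 hp.symm f1 hpw f2 hqw f3)
        (nodup4 hs.2 (fun h => hx.1 h.symm) hs.1 (fun h => hx.2.2.1 h.symm) hu hx.2.1)
      have k1 : k p = s := hk (p, s) (by simp)
      have k2 : k (σ p) = ρ u := hk (σ p, ρ u) (by simp)
      have k3 : k (σ⁻¹ p) = x := hk (σ⁻¹ p, x) (by simp)
      have k4 : k w₁ = u := hk (w₁, u) (by simp)
      refine ⟨k, s, x, ?_, ?_, ?_, hs.1, ?_, hx.1⟩
      · rw [← k1, conj_apply, k2]
      · rw [← k3, conj_apply, perm_apply_inv, k1]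
      · rw [← k4, conj_apply, h1]
      · intro h
        apply hx.2.2.2
        rw [Perm.eq_inv_iff_eq]
        exact h
  obtain ⟨k, s, x, c1, c2, c3, hsu, hx, hxs⟩ := key
  have hlt := ag_lt_move (k * σ * k⁻¹) ρ s u x c1 c2 c3 hsu hu hx hxs
  have e : swap s u * (k * σ * k⁻¹) * (swap s u)⁻¹ = (swap s u * k) * σ * (swap s u * k)⁻¹ := by
    group
  rw [e] at hlt
  obtain ⟨k', hk', e'⟩ := even_conj σ (swap w₁ w₂) ht hcomm k
  obtain ⟨k'', hk'', e''⟩ := even_conj σ (swap w₁ w₂) ht hcomm (swap s u * k)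
  refine ⟨k', k'', hk', hk'', ?_⟩
  rw [e', e'']
  exact ne_of_lt hlt

/-- Two moved points in general position, for a permutation with at most one fixed point. -/
theorem exists_pattern (hn : 5 ≤ Fintype.card α) (σ : Perm α)
    (hσ : ∀ w₁ w₂, σ w₁ = w₁ → σ w₂ = w₂ → w₁ = w₂) :
    ∃ p p₂, σ p ≠ p ∧ σ p₂ ≠ p₂ ∧ p₂ ≠ p ∧ p₂ ≠ σ p ∧ σ p₂ ≠ p := by
  have hF : (Finset.univ.filter fun x => σ x = x).card ≤ 1 :=
    Finset.card_le_one.2 (fun a ha b hb =>
      hσ a b (Finset.mem_filter.1 ha).2 (Finset.mem_filter.1 hb).2)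
  obtain ⟨p, hp⟩ := exists_notMem_of_card_lt (Finset.univ.filter fun x => σ x = x) (by omega)
  obtain ⟨p₂, hp₂⟩ := exists_notMem_of_card_lt
    ((Finset.univ.filter fun x => σ x = x) ∪ ({p, σ p, σ⁻¹ p} : Finset α)) (by
      have h3 : ({p, σ p, σ⁻¹ p} : Finset α).card ≤ 3 := Finset.card_le_three
      have := Finset.card_union_le (Finset.univ.filter fun x => σ x = x)
        ({p, σ p, σ⁻¹ p} : Finset α)
      omega)
  rw [Finset.mem_filter] at hp
  rw [Finset.mem_union, Finset.mem_filter] at hp₂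
  simp only [Finset.mem_insert, Finset.mem_singleton, Finset.mem_univ, true_and, not_or] at hp hp₂
  refine ⟨p, p₂, hp, hp₂.1, hp₂.2.1, hp₂.2.2.1, ?_⟩
  intro h
  apply hp₂.2.2.2
  rw [Perm.eq_inv_iff_eq]
  exact h

theorem two_le_ag_of_pattern (σ ρ k : Perm α) (p p₂ : α) (hpp : p ≠ p₂)
    (e1 : k (σ p) = ρ (k p)) (e2 : k (σ p₂) = ρ (k p₂)) : 2 ≤ ag (k * σ * k⁻¹) ρ := by
  unfold ag
  have m1 : k p ∈ Finset.univ.filter fun x => (k * σ * k⁻¹) x = ρ x := by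
    rw [Finset.mem_filter]
    exact ⟨Finset.mem_univ _, by rw [conj_apply]; exact e1⟩
  have m2 : k p₂ ∈ Finset.univ.filter fun x => (k * σ * k⁻¹) x = ρ x := by
    rw [Finset.mem_filter]
    exact ⟨Finset.mem_univ _, by rw [conj_apply]; exact e2⟩
  exact Finset.one_lt_card.2 ⟨k p, m1, k p₂, m2, fun h => hpp (k.injective h)⟩

theorem exists_two_le_of_comm (hn : 5 ≤ Fintype.card α) (σ ρ : Perm α)
    (hσ : ∀ w₁ w₂, σ w₁ = w₁ → σ w₂ = w₂ → w₁ = w₂)
    (hρ : ∀ w₁ w₂, ρ w₁ = w₁ → ρ w₂ = w₂ → w₁ = w₂) (t : Perm α) (ht : Perm.sign t = -1)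
    (hcomm : t * σ = σ * t) : ∃ h : Perm α, Perm.sign h = 1 ∧ 2 ≤ ag (h * σ * h⁻¹) ρ := by
  obtain ⟨p, p₂, a1, a2, a3, a4, a5⟩ := exists_pattern hn σ hσ
  obtain ⟨u, u₂, b1, b2, b3, b4, b5⟩ := exists_pattern hn ρ hρ
  obtain ⟨k, hk⟩ := exists_perm_list [(p, u), (σ p, ρ u), (p₂, u₂), (σ p₂, ρ u₂)]
    (nodup4 a1.symm a3.symm a5.symm a4.symm (fun h => a3 (σ.injective h).symm) a2.symm)
    (nodup4 b1.symm b3.symm b5.symm b4.symm (fun h => b3 (ρ.injective h).symm) b2.symm)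
  have k1 : k p = u := hk (p, u) (by simp)
  have k2 : k (σ p) = ρ u := hk (σ p, ρ u) (by simp)
  have k3 : k p₂ = u₂ := hk (p₂, u₂) (by simp)
  have k4 : k (σ p₂) = ρ u₂ := hk (σ p₂, ρ u₂) (by simp)
  obtain ⟨k', hk', e⟩ := even_conj σ t ht hcomm k
  refine ⟨k', hk', ?_⟩
  rw [e]
  exact two_le_ag_of_pattern σ ρ k p p₂ a3.symm (by rw [k2, k1]) (by rw [k4, k3])

theorem exists_two_le_of_long (hn : 5 ≤ Fintype.card α) (σ ρ : Perm α) (p : α)
    (hp1 : σ p ≠ p) (hp2 : σ (σ p) ≠ p) (u : α) (hu1 : ρ u ≠ u) (hu2 : ρ (ρ u) ≠ u) :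
    ∃ h : Perm α, Perm.sign h = 1 ∧ 2 ≤ ag (h * σ * h⁻¹) ρ := by
  obtain ⟨k, hk, hk'⟩ := exists_even_perm_list [(p, u), (σ p, ρ u), (σ (σ p), ρ (ρ u))]
    (nodup3 hp1.symm hp2.symm (fun h => hp1 (σ.injective h).symm))
    (nodup3 hu1.symm hu2.symm (fun h => hu1 (ρ.injective h).symm)) (by simpa using hn)
  have k1 : k p = u := hk' (p, u) (by simp)
  have k2 : k (σ p) = ρ u := hk' (σ p, ρ u) (by simp)
  have k3 : k (σ (σ p)) = ρ (ρ u) := hk' (σ (σ p), ρ (ρ u)) (by simp)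
  exact ⟨k, hk, two_le_ag_of_pattern σ ρ k p (σ p) hp1.symm (by rw [k2, k1]) (by rw [k3, k2])⟩

theorem exists_odd_comm_of_not_long (σ : Perm α) (p : α) (hp : σ p ≠ p) (hq : σ (σ p) = p) :
    ∃ t : Perm α, Perm.sign t = -1 ∧ t * σ = σ * t := by
  refine ⟨swap p (σ p), Perm.sign_swap hp.symm, ?_⟩
  have := Equiv.mul_swap_eq_swap_mul σ p (σ p)
  rw [hq, swap_comm (σ p) p] at this
  exact this.symm

/-- For non-identity permutations `σ`, `ρ` of at least five points, the number of points where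
`h σ h⁻¹` and `ρ` agree is not constant over the even permutations `h`. -/
theorem NC_main (hn : 5 ≤ Fintype.card α) (σ ρ : Perm α) (hσ : σ ≠ 1) (hρ : ρ ≠ 1) :
    NC σ ρ := by
  by_cases fσ : ∀ w₁ w₂, σ w₁ = w₁ → σ w₂ = w₂ → w₁ = w₂
  swap
  · simp only [not_forall] at fσ
    obtain ⟨w₁, w₂, h1, h2, hw⟩ := fσ
    exact NC_of_two_fixed hn σ ρ hσ hρ w₁ w₂ hw h1 h2
  by_cases fρ : ∀ w₁ w₂, ρ w₁ = w₁ → ρ w₂ = w₂ → w₁ = w₂
  swap
  · simp only [not_forall] at fρ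
    obtain ⟨w₁, w₂, h1, h2, hw⟩ := fρ
    exact NC_symm (NC_of_two_fixed hn ρ σ hρ hσ w₁ w₂ hw h1 h2)
  by_cases cσ : ∃ t : Perm α, Perm.sign t = -1 ∧ t * σ = σ * t
  · obtain ⟨t, ht, hc⟩ := cσ
    obtain ⟨h, hh, h2⟩ := exists_two_le_of_comm hn σ ρ fσ fρ t ht hc
    exact NC_of_two_le hn σ ρ fρ h hh h2
  by_cases cρ : ∃ t : Perm α, Perm.sign t = -1 ∧ t * ρ = ρ * t
  · obtain ⟨t, ht, hc⟩ := cρ
    obtain ⟨h, hh, h2⟩ := exists_two_le_of_comm hn ρ σ fρ fσ t ht hc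
    exact NC_symm (NC_of_two_le hn ρ σ fσ h hh h2)
  obtain ⟨p, hp⟩ := exists_moved σ hσ
  obtain ⟨u, hu⟩ := exists_moved ρ hρ
  have hp2 : σ (σ p) ≠ p := fun h => cσ (exists_odd_comm_of_not_long σ p hp h)
  have hu2 : ρ (ρ u) ≠ u := fun h => cρ (exists_odd_comm_of_not_long ρ u hu h)
  obtain ⟨h, hh, h2⟩ := exists_two_le_of_long hn σ ρ p hp hp2 u hu hu2
  exact NC_of_two_le hn σ ρ fρ h hh h2

end Cfsg.Agent.Lib.Helper6.ArHz
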