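import Mathlib.GroupTheory.SpecificGroups.Alternating
import Mathlib.GroupTheory.Perm.Sign
import Mathlib.Tactic

/-!
Permutations with prescribed values, parity corrections and the agreement count of two
permutations (helper6, for S2271).
-/

set_option autoImplicit false

namespace Cfsg.Agent.Lib.Helper6.ArHz

open Equiv Finset

variable {α : Type*} [Fintype α] [DecidableEq α]

/-- A finset smaller than the whole type misses a point. -/
theorem exists_notMem_of_card_lt (S : Finset α) (h : S.card < Fintype.card α) :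
    ∃ x, x ∉ S := by
  by_contra hcon
  have : S = Finset.univ := Finset.eq_univ_iff_forall.2 (fun x => by
    by_contra hx
    exact hcon ⟨x, hx⟩)
  rw [this, Finset.card_univ] at h
  exact lt_irrefl _ h

omit [Fintype α] in
/-- A permutation with prescribed values on a list of points. -/
theorem exists_perm_list : ∀ (l : List (α × α)), (l.map Prod.fst).Nodup →
    (l.map Prod.snd).Nodup → ∃ k : Perm α, ∀ x ∈ l, k x.1 = x.2
  | [], _, _ => ⟨1, by simp⟩
  | a :: l, h1, h2 => by
    rw [List.map_cons, List.nodup_cons] at h1 h2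
    obtain ⟨k, hk⟩ := exists_perm_list l h1.2 h2.2
    refine ⟨swap (k a.1) a.2 * k, ?_⟩
    intro x hx
    rcases List.mem_cons.1 hx with hx | hx
    · subst hx
      simp
    · have hkx := hk x hx
      have hne1 : x.2 ≠ a.2 := by
        intro h
        exact h2.1 (h ▸ List.mem_map_of_mem (f := Prod.snd) hx)
      have hne2 : x.2 ≠ k a.1 := by
        intro h
        rw [← hkx] at h
        have := k.injective h
        exact h1.1 (this ▸ List.mem_map_of_mem (f := Prod.fst) hx)
      rw [Perm.mul_apply, hkx, swap_apply_of_ne_of_ne hne2 hne1]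

/-- An even permutation with prescribed values on a list of points, when two further points are
available. -/
theorem exists_even_perm_list (l : List (α × α)) (h1 : (l.map Prod.fst).Nodup)
    (h2 : (l.map Prod.snd).Nodup) (hlen : l.length + 2 ≤ Fintype.card α) :
    ∃ k : Perm α, Perm.sign k = 1 ∧ ∀ x ∈ l, k x.1 = x.2 := by
  obtain ⟨k, hk⟩ := exists_perm_list l h1 h2
  by_cases hs : Perm.sign k = 1
  · exact ⟨k, hs, hk⟩
  · have hs' : Perm.sign k = -1 := (Int.units_eq_one_or _).resolve_left hs
    set S : Finset α := (l.map Prod.snd).toFinset with hS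
    have hScard : S.card ≤ l.length := by
      have := List.toFinset_card_le (l.map Prod.snd)
      simpa using this
    obtain ⟨c, hc⟩ := exists_notMem_of_card_lt S (by omega)
    obtain ⟨d, hd⟩ := exists_notMem_of_card_lt (insert c S) (by
      have := Finset.card_insert_le c S
      omega)
    have hcd : c ≠ d := by
      intro h
      exact hd (h ▸ Finset.mem_insert_self _ _)
    refine ⟨swap c d * k, ?_, ?_⟩
    · rw [Perm.sign_mul, Perm.sign_swap hcd, hs']
      rfl
    · intro x hx
      have hmem : x.2 ∈ S := by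
        rw [hS, List.mem_toFinset]
        exact List.mem_map_of_mem (f := Prod.snd) hx
      have h1 : x.2 ≠ c := fun h => hc (h ▸ hmem)
      have h2 : x.2 ≠ d := fun h => hd (h ▸ Finset.mem_insert_of_mem hmem)
      rw [Perm.mul_apply, hk x hx, swap_apply_of_ne_of_ne h1 h2]

/-- If `σ` commutes with an odd permutation, every conjugate of `σ` is a conjugate under an even
permutation. -/
theorem even_conj (σ t : Perm α) (ht : Perm.sign t = -1) (hcomm : t * σ = σ * t)
    (k : Perm α) : ∃ k' : Perm α, Perm.sign k' = 1 ∧ k' * σ * k'⁻¹ = k * σ * k⁻¹ := by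
  by_cases hs : Perm.sign k = 1
  · exact ⟨k, hs, rfl⟩
  · have hs' : Perm.sign k = -1 := (Int.units_eq_one_or _).resolve_left hs
    refine ⟨k * t, ?_, ?_⟩
    · rw [Perm.sign_mul, ht, hs']
      rfl
    · have : t * σ * t⁻¹ = σ := by rw [hcomm]; group
      calc k * t * σ * (k * t)⁻¹ = k * (t * σ * t⁻¹) * k⁻¹ := by group
        _ = k * σ * k⁻¹ := by rw [this]

/-- The number of points at which two permutations agree. -/
def ag (σ ρ : Perm α) : ℕ := (Finset.univ.filter fun x => σ x = ρ x).card

theorem ag_comm (σ ρ : Perm α) : ag σ ρ = ag ρ σ := by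
  unfold ag
  congr 1
  ext x
  simp [eq_comm]

theorem ag_conj (k σ ρ : Perm α) : ag (k * σ * k⁻¹) (k * ρ * k⁻¹) = ag σ ρ := by
  unfold ag
  refine Finset.card_equiv k⁻¹ ?_
  intro x
  simp

/-- The agreement count is not constant on the even conjugates of `σ`. -/
def NC (σ ρ : Perm α) : Prop :=
  ∃ h₁ h₂ : Perm α, Perm.sign h₁ = 1 ∧ Perm.sign h₂ = 1 ∧
    ag (h₁ * σ * h₁⁻¹) ρ ≠ ag (h₂ * σ * h₂⁻¹) ρ

theorem ag_conj_swap (h σ ρ : Perm α) : ag (h * σ * h⁻¹) ρ = ag (h⁻¹ * ρ * h⁻¹⁻¹) σ := by
  rw [← ag_conj h⁻¹ (h * σ * h⁻¹) ρ, ag_comm]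
  congr 1
  group

theorem NC_symm {σ ρ : Perm α} (h : NC ρ σ) : NC σ ρ := by
  obtain ⟨h₁, h₂, e1, e2, hne⟩ := h
  refine ⟨h₁⁻¹, h₂⁻¹, by simpa using e1, by simpa using e2, ?_⟩
  rw [ag_conj_swap h₁⁻¹ σ ρ, ag_conj_swap h₂⁻¹ σ ρ]
  simpa using hne

/-- The fixed-point count appearing in S2271 is an agreement count. -/
theorem card_fixedPoints_eq_ag (a β : Perm α) :
    Nat.card (Function.fixedPoints ⇑(a * β)) = ag β a⁻¹ := by
  unfold ag
  rw [← Fintype.card_subtype, ← Nat.card_eq_fintype_card]
  refine Nat.card_congr (Equiv.subtypeEquivRight ?_)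
  intro x
  simp only [Function.mem_fixedPoints, Function.IsFixedPt, Perm.mul_apply]
  constructor
  · intro h
    rw [Perm.eq_inv_iff_eq]
    exact h
  · intro h
    rw [Perm.eq_inv_iff_eq] at h
    exact h

end Cfsg.Agent.Lib.Helper6.ArHz
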