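import Mathlib
import Cfsg.Prelude.Def_GeometricClasses
import Cfsg.Prelude.Def_LieClassical
import Cfsg.Agent.Lib.Helper71.Asch5
import Cfsg.Agent.Lib.Helper82.ASB8UNITS
import Cfsg.Agent.Lib.Helper44.BADDefs

/-! Project BAD (helper44; sub-project of helper49's SUG = S5663), piece SNORM (copy of helper6):
every unitary `3 × 3` matrix over the field with 4 elements normalises `bS = 3^{1+2}`.
Brute force over a concrete model of the field with 4 elements, then transport along a ring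
isomorphism. -/

set_option autoImplicit false

namespace Cfsg.Agent.Lib.Helper44.BAD

open Matrix Cfsg.Geo Cfsg.Agent.Lib.Helper71.Asch
open scoped Kronecker

/-- a concrete model of the field with 4 elements: `0, 1, ω, ω²` -/
inductive SNORM_F4 : Type
  | z | o | w | v
  deriving DecidableEq

instance SNORM_fintype : Fintype SNORM_F4 :=
  ⟨⟨{SNORM_F4.z, SNORM_F4.o, SNORM_F4.w, SNORM_F4.v}, by decide⟩, by
    intro x
    cases x <;> decide⟩

/-- addition -/
def SNORM_add : SNORM_F4 → SNORM_F4 → SNORM_F4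
  | .z, x => x
  | .o, .z => .o | .o, .o => .z | .o, .w => .v | .o, .v => .w
  | .w, .z => .w | .w, .o => .v | .w, .w => .z | .w, .v => .o
  | .v, .z => .v | .v, .o => .w | .v, .w => .o | .v, .v => .z

/-- multiplication -/
def SNORM_mul : SNORM_F4 → SNORM_F4 → SNORM_F4
  | .z, _ => .z
  | .o, x => x
  | .w, .z => .z | .w, .o => .w | .w, .w => .v | .w, .v => .o
  | .v, .z => .z | .v, .o => .v | .v, .w => .o | .v, .v => .w

/-- inverse -/
def SNORM_inv : SNORM_F4 → SNORM_F4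
  | .z => .z | .o => .o | .w => .v | .v => .w

instance SNORM_zero : Zero SNORM_F4 := ⟨SNORM_F4.z⟩
instance SNORM_one : One SNORM_F4 := ⟨SNORM_F4.o⟩
instance SNORM_addI : Add SNORM_F4 := ⟨SNORM_add⟩
instance SNORM_mulI : Mul SNORM_F4 := ⟨SNORM_mul⟩
instance SNORM_negI : Neg SNORM_F4 := ⟨id⟩
instance SNORM_invI : Inv SNORM_F4 := ⟨SNORM_inv⟩

instance SNORM_commRing : CommRing SNORM_F4 where
  add_assoc := by decide
  zero_add := by decide
  add_zero := by decide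
  add_comm := by decide
  neg_add_cancel := by decide
  left_distrib := by decide
  right_distrib := by decide
  zero_mul := by decide
  mul_zero := by decide
  mul_assoc := by decide
  one_mul := by decide
  mul_one := by decide
  mul_comm := by decide
  nsmul := nsmulRec
  zsmul := zsmulRec

instance SNORM_field : Field SNORM_F4 where
  exists_pair_ne := ⟨0, 1, by decide⟩
  mul_inv_cancel := by decide
  inv_zero := rfl
  nnqsmul := _
  nnqsmul_def := fun _ _ => rfl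
  qsmul := _
  qsmul_def := fun _ _ => rfl

/-- `3 × 3` matrices as 9-tuples (row by row) -/
abbrev SNORM_M9 : Type :=
  SNORM_F4 × SNORM_F4 × SNORM_F4 × SNORM_F4 × SNORM_F4 × SNORM_F4 × SNORM_F4 × SNORM_F4 × SNORM_F4

/-- the matrix of a 9-tuple -/
def SNORM_toMat : SNORM_M9 → Matrix (Fin 3) (Fin 3) SNORM_F4
  | (a, b, c, d, e, f, g, h, i) => !![a, b, c; d, e, f; g, h, i]

/-- product of 9-tuples -/
def SNORM_mul9 : SNORM_M9 → SNORM_M9 → SNORM_M9
  | (a, b, c, d, e, f, g, h, i), (a', b', c', d', e', f', g', h', i') =>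
    (a * a' + b * d' + c * g', a * b' + b * e' + c * h', a * c' + b * f' + c * i',
     d * a' + e * d' + f * g', d * b' + e * e' + f * h', d * c' + e * f' + f * i',
     g * a' + h * d' + i * g', g * b' + h * e' + i * h', g * c' + h * f' + i * i')

/-- the elements of `bS` as 9-tuples -/
def SNORM_S9 (c d : SNORM_F4) : Fin 3 → SNORM_M9
  | 0 => (c, 0, 0, 0, c * d, 0, 0, 0, c * (d * d))
  | 1 => (0, 0, c, c * d, 0, 0, 0, c * (d * d), 0)
  | 2 => (0, c, 0, 0, 0, c * d, c * (d * d), 0, 0)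

/-- the list of the 27 elements of `bS` -/
def SNORM_L9 : List SNORM_M9 :=
  [SNORM_S9 .o .o 0, SNORM_S9 .o .o 1, SNORM_S9 .o .o 2,
   SNORM_S9 .o .w 0, SNORM_S9 .o .w 1, SNORM_S9 .o .w 2,
   SNORM_S9 .o .v 0, SNORM_S9 .o .v 1, SNORM_S9 .o .v 2,
   SNORM_S9 .w .o 0, SNORM_S9 .w .o 1, SNORM_S9 .w .o 2,
   SNORM_S9 .w .w 0, SNORM_S9 .w .w 1, SNORM_S9 .w .w 2,
   SNORM_S9 .w .v 0, SNORM_S9 .w .v 1, SNORM_S9 .w .v 2,
   SNORM_S9 .v .o 0, SNORM_S9 .v .o 1, SNORM_S9 .v .o 2,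
   SNORM_S9 .v .w 0, SNORM_S9 .v .w 1, SNORM_S9 .v .w 2,
   SNORM_S9 .v .v 0, SNORM_S9 .v .v 1, SNORM_S9 .v .v 2]

theorem SNORM_mem_L9 : ∀ c d : SNORM_F4, c ≠ 0 → d ≠ 0 → ∀ j : Fin 3,
    SNORM_S9 c d j ∈ SNORM_L9 := by decide

theorem SNORM_of_L9 : ∀ M ∈ SNORM_L9, ∃ c d : SNORM_F4, ∃ j : Fin 3, c ≠ 0 ∧ d ≠ 0 ∧
    M = SNORM_S9 c d j := by
  intro M hM
  simp only [SNORM_L9, List.mem_cons, List.not_mem_nil, or_false] at hM
  rcases hM with rfl | rfl | rfl | rfl | rfl | rfl | rfl | rfl | rfl | rfl | rfl | rfl | rfl |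
    rfl | rfl | rfl | rfl | rfl | rfl | rfl | rfl | rfl | rfl | rfl | rfl | rfl | rfl <;>
  exact ⟨_, _, _, by decide, by decide, rfl⟩

set_option maxRecDepth 100000 in
/-- the brute-force core -/
theorem SNORM_core : ∀ a b c : SNORM_F4, a * (a * a) + b * (b * b) + c * (c * c) = 1 →
    ∀ d e f : SNORM_F4, d * (d * d) + e * (e * e) + f * (f * f) = 1 →
    a * (d * d) + b * (e * e) + c * (f * f) = 0 →
    ∀ g h i : SNORM_F4, g * (g * g) + h * (h * h) + i * (i * i) = 1 →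
    a * (g * g) + b * (h * h) + c * (i * i) = 0 →
    d * (g * g) + e * (h * h) + f * (i * i) = 0 →
    ∀ M ∈ SNORM_L9, SNORM_mul9 (SNORM_mul9 (a, d, g, b, e, h, c, f, i) M)
      (a * a, b * b, c * c, d * d, e * e, f * f, g * g, h * h, i * i) ∈ SNORM_L9 := by
  decide +kernel

theorem SNORM_toMat_mul9 (A B : SNORM_M9) :
    SNORM_toMat (SNORM_mul9 A B) = SNORM_toMat A * SNORM_toMat B := by
  obtain ⟨a, b, c, d, e, f, g, h, i⟩ := A
  obtain ⟨a', b', c', d', e', f', g', h', i'⟩ := B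
  ext x y
  fin_cases x <;> fin_cases y <;>
    simp [SNORM_toMat, SNORM_mul9, Matrix.mul_apply, Fin.sum_univ_three]

theorem SNORM_bY3 : bY SNORM_F4 ^ 3 = 1 := by
  ext x y
  fin_cases x <;> fin_cases y <;>
    simp [bY, pow_succ, Matrix.mul_apply, Fin.sum_univ_three]

theorem SNORM_S9_eq (c d : SNORM_F4) (j : Fin 3) :
    SNORM_toMat (SNORM_S9 c d j) =
      c • (Matrix.diagonal ![1, d, d ^ 2] * bY SNORM_F4 ^ (j : ℕ)) := by
  fin_cases j <;> ext x y <;> fin_cases x <;> fin_cases y <;>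
    simp [SNORM_toMat, SNORM_S9, bY, pow_succ, Matrix.mul_apply, Matrix.diagonal_apply]

theorem SNORM_F4_main : SNORMp SNORM_F4 := by
  intro g hg M hM
  obtain ⟨c, d, k, hc, hd, rfl⟩ := hM
  have hk : bY SNORM_F4 ^ k = bY SNORM_F4 ^ (k % 3) := by
    conv_lhs => rw [← Nat.mod_add_div k 3]
    rw [pow_add, pow_mul, SNORM_bY3, one_pow, mul_one]
  have hM9 : c • (Matrix.diagonal ![1, d, d ^ 2] * bY SNORM_F4 ^ k) =
      SNORM_toMat (SNORM_S9 c d ⟨k % 3, Nat.mod_lt k (by norm_num)⟩) := by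
    rw [hk, SNORM_S9_eq]
  have hgU : gᵀ * g.map (fun x : SNORM_F4 => x ^ 2) = 1 := hg
  have e00 : g 0 0 * (g 0 0 * g 0 0) + g 1 0 * (g 1 0 * g 1 0) + g 2 0 * (g 2 0 * g 2 0) = 1 := by
    have h := congrFun (congrFun hgU 0) 0
    simpa [Matrix.mul_apply, Fin.sum_univ_three, pow_two] using h
  have e11 : g 0 1 * (g 0 1 * g 0 1) + g 1 1 * (g 1 1 * g 1 1) + g 2 1 * (g 2 1 * g 2 1) = 1 := by
    have h := congrFun (congrFun hgU 1) 1
    simpa [Matrix.mul_apply, Fin.sum_univ_three, pow_two] using h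
  have e22 : g 0 2 * (g 0 2 * g 0 2) + g 1 2 * (g 1 2 * g 1 2) + g 2 2 * (g 2 2 * g 2 2) = 1 := by
    have h := congrFun (congrFun hgU 2) 2
    simpa [Matrix.mul_apply, Fin.sum_univ_three, pow_two] using h
  have e01 : g 0 0 * (g 0 1 * g 0 1) + g 1 0 * (g 1 1 * g 1 1) + g 2 0 * (g 2 1 * g 2 1) = 0 := by
    have h := congrFun (congrFun hgU 0) 1
    simpa [Matrix.mul_apply, Fin.sum_univ_three, pow_two] using h
  have e02 : g 0 0 * (g 0 2 * g 0 2) + g 1 0 * (g 1 2 * g 1 2) + g 2 0 * (g 2 2 * g 2 2) = 0 := by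
    have h := congrFun (congrFun hgU 0) 2
    simpa [Matrix.mul_apply, Fin.sum_univ_three, pow_two] using h
  have e12 : g 0 1 * (g 0 2 * g 0 2) + g 1 1 * (g 1 2 * g 1 2) + g 2 1 * (g 2 2 * g 2 2) = 0 := by
    have h := congrFun (congrFun hgU 1) 2
    simpa [Matrix.mul_apply, Fin.sum_univ_three, pow_two] using h
  have hcore := SNORM_core (g 0 0) (g 1 0) (g 2 0) e00 (g 0 1) (g 1 1) (g 2 1) e11 e01
    (g 0 2) (g 1 2) (g 2 2) e22 e02 e12 _
    (SNORM_mem_L9 c d hc hd ⟨k % 3, Nat.mod_lt k (by norm_num)⟩)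
  obtain ⟨c', d', j', hc', hd', hN⟩ := SNORM_of_L9 _ hcore
  have hg9 : g = SNORM_toMat (g 0 0, g 0 1, g 0 2, g 1 0, g 1 1, g 1 2, g 2 0, g 2 1, g 2 2) := by
    ext x y
    fin_cases x <;> fin_cases y <;> rfl
  have hgb : (g.map (fun x : SNORM_F4 => x ^ 2))ᵀ =
      SNORM_toMat (g 0 0 * g 0 0, g 1 0 * g 1 0, g 2 0 * g 2 0, g 0 1 * g 0 1, g 1 1 * g 1 1,
        g 2 1 * g 2 1, g 0 2 * g 0 2, g 1 2 * g 1 2, g 2 2 * g 2 2) := by
    ext x y
    fin_cases x <;> fin_cases y <;> simp [SNORM_toMat, pow_two]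
  have hinv : (g.map (fun x : SNORM_F4 => x ^ 2))ᵀ * g = 1 := by
    have h := congrArg Matrix.transpose hgU
    rw [Matrix.transpose_mul, Matrix.transpose_transpose, Matrix.transpose_one] at h
    exact h
  refine ⟨SNORM_toMat (SNORM_S9 c' d' j'), ?_, ?_⟩
  · rw [SNORM_S9_eq]
    exact ⟨c', d', j', hc', hd', rfl⟩
  · rw [← hN, SNORM_toMat_mul9, SNORM_toMat_mul9, ← hgb, ← hM9, ← hg9, Matrix.mul_assoc, hinv,
      Matrix.mul_one]

theorem SNORM_map_bS {F F' : Type*} [Field F] [Field F'] (φ : F →+* F')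
    (M : Matrix (Fin 3) (Fin 3) F) (hM : M ∈ bS F) : M.map φ ∈ bS F' := by
  obtain ⟨c, d, k, hc, hd, rfl⟩ := hM
  refine ⟨φ c, φ d, k, (map_ne_zero φ).mpr hc, (map_ne_zero φ).mpr hd, ?_⟩
  have hY : (bY F).map φ = bY F' := by
    ext x y
    fin_cases x <;> fin_cases y <;> simp [bY]
  have hD : (Matrix.diagonal ![1, d, d ^ 2]).map φ = Matrix.diagonal ![1, φ d, φ d ^ 2] := by
    ext x y
    fin_cases x <;> fin_cases y <;> simp
  have hpow : (bY F ^ k).map φ = bY F' ^ k := by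
    rw [← hY]
    exact map_pow φ.mapMatrix (bY F) k
  rw [Matrix.map_smul' φ c _ (map_mul φ), Matrix.map_mul, hD, hpow]

theorem SNORM_map_bU {F F' : Type*} [Field F] [Field F'] (φ : F →+* F')
    (g : Matrix (Fin 3) (Fin 3) F) (hg : g ∈ bU F 2) : g.map φ ∈ bU F' 2 := by
  have hg' : gᵀ * g.map (fun x : F => x ^ 2) = 1 := hg
  show (g.map φ)ᵀ * (g.map φ).map (fun x : F' => x ^ 2) = 1
  have e1 : (g.map φ).map (fun x : F' => x ^ 2) = (g.map (fun x : F => x ^ 2)).map φ := by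
    ext x y
    simp [Matrix.map_apply]
  rw [e1, ← Matrix.transpose_map, ← Matrix.map_mul, hg', Matrix.map_one _ (map_zero φ) (map_one φ)]

variable {n : ℕ} {F : Type*} [Field F] [Fintype F] {q : ℕ}

/-- SNORM: every unitary matrix normalises `bS`. -/
theorem SNORM (hF : Fintype.card F = 4) : SNORMp F := by
  have hcard : Fintype.card F = Fintype.card SNORM_F4 := by
    rw [hF]
    rfl
  obtain ⟨φ⟩ : Nonempty (F ≃+* SNORM_F4) := ⟨FiniteField.ringEquivOfCardEq hcard⟩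
  intro g hg M hM
  have hg' := SNORM_map_bU (φ : F →+* SNORM_F4) g hg
  have hM' := SNORM_map_bS (φ : F →+* SNORM_F4) M hM
  obtain ⟨N', hN', hEq⟩ := SNORM_F4_main _ hg' _ hM'
  refine ⟨N'.map (φ.symm : SNORM_F4 →+* F), SNORM_map_bS _ N' hN', ?_⟩
  have hinj : ∀ A B : Matrix (Fin 3) (Fin 3) F,
      A.map (φ : F →+* SNORM_F4) = B.map (φ : F →+* SNORM_F4) → A = B := by
    intro A B h
    ext x y
    have h1 := congrFun (congrFun h x) y
    simp only [Matrix.map_apply] at h1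
    exact φ.injective h1
  apply hinj
  rw [Matrix.map_mul, Matrix.map_mul, hEq]
  congr 1
  ext x y
  simp [Matrix.map_apply]

end Cfsg.Agent.Lib.Helper44.BAD
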