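import Mathlib
import Cfsg.Agent.Lib.Helper10.BWDefs
import Cfsg.Agent.Lib.Helper4.CharDual

/-!
# S0997 case B2 (project BW, helper10), piece REAL: the exceptional character `θ` is real-valued.
-/

set_option autoImplicit false

namespace Cfsg.Agent.Lib.Helper10.BW

open Cfsg
open scoped ComplexConjugate

universe u

variable {G : Type u} [Group G] [Fintype G]

variable {p e : ℕ} {P : Subgroup G} {θ θ' : IrrCharacter G} {Xp Xm D : Finset (IrrCharacter G)}

/-- a complex number whose square is a positive real is real -/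
private theorem real_of_sq_pos (b : ℂ) (r : ℝ) (hr : 0 < r) (hb : b ^ 2 = (r : ℂ)) : b.im = 0 := by
  have h1 : (b ^ 2).im = 0 := by rw [hb]; simp
  have h2 : (b ^ 2).re = r := by rw [hb]; simp
  rw [pow_two, Complex.mul_im] at h1
  rw [pow_two, Complex.mul_re] at h2
  by_contra hv
  have hu : b.re = 0 := by
    have h3 : b.re * b.im = 0 := by linarith
    rcases mul_eq_zero.mp h3 with h4 | h4
    · exact h4
    · exact absurd h4 hv
  rw [hu] at h2
  nlinarith [sq_nonneg b.im]

/-- BW-REAL -/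
theorem theta_real (h : VTab G p e P θ θ' Xp Xm D) (g : G) :
    conj ((θ : G → ℂ) g) = (θ : G → ℂ) g := by
  have hp5 : 5 ≤ p := by have h1 := h.hpe; have h2 := h.he2; omega
  obtain ⟨x, hxP, hx1⟩ : ∃ x ∈ P, x ≠ 1 := by
    by_contra hc
    push Not at hc
    have hbot : P = ⊥ := (Subgroup.eq_bot_iff_forall P).mpr hc
    have h1 := h.cardP
    rw [hbot, Subgroup.card_bot] at h1
    omega
  have hsq : (2 * (θ : G → ℂ) x - 1) ^ 2 = (p : ℂ) := h.sq x hxP hx1
  have hp0 : (0 : ℝ) < (p : ℝ) := by exact_mod_cast (by omega : 0 < p)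
  have hb_im : (2 * (θ : G → ℂ) x - 1).im = 0 :=
    real_of_sq_pos _ (p : ℝ) hp0 (by rw [hsq]; norm_cast)
  have ha_im : ((θ : G → ℂ) x).im = 0 := by
    have h1 : (2 * (θ : G → ℂ) x - 1).im = 2 * ((θ : G → ℂ) x).im := by simp
    linarith
  have hreal : conj ((θ : G → ℂ) x) = (θ : G → ℂ) x := Complex.conj_eq_iff_im.mpr ha_im
  have hc : (Cfsg.Agent.Lib.Helper4.irrConj θ : G → ℂ) x = (θ : G → ℂ) x := by
    rw [Cfsg.Agent.Lib.Helper4.irrConj_apply]; exact hreal
  have hpne1 : (p : ℂ) ≠ 1 := by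
    intro h1
    have h2 : p = 1 := by exact_mod_cast h1
    omega
  rcases h.part (Cfsg.Agent.Lib.Helper4.irrConj θ) with hcase | hcase | hcase | hcase | hcase
  · have h1 := congrArg (fun χ : IrrCharacter G => (χ : G → ℂ) g) hcase
    simpa [Cfsg.Agent.Lib.Helper4.irrConj_apply] using h1
  · exfalso
    rw [hcase] at hc
    have h1 := h.sumθ x hxP hx1
    have h2 : 2 * (θ : G → ℂ) x - 1 = 0 := by linear_combination h1 - hc
    rw [h2] at hsq
    have h3 : (p : ℂ) = 0 := by rw [← hsq]; ring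
    have h4 : p = 0 := by exact_mod_cast h3
    omega
  · exfalso
    have h1 := h.valXp _ hcase x hxP hx1
    rw [hc] at h1
    rw [h1] at hsq
    apply hpne1
    rw [← hsq]; ring
  · exfalso
    have h1 := h.valXm _ hcase x hxP hx1
    rw [hc] at h1
    rw [h1] at hsq
    have h3 : (p : ℂ) = 9 := by rw [← hsq]; ring
    have h4 : p = 9 := by exact_mod_cast h3
    have h5 := h.hp
    rw [h4] at h5
    exact absurd h5 (by norm_num)
  · exfalso
    have h1 := h.valD _ hcase x hxP hx1
    rw [hc] at h1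
    rw [h1] at hsq
    apply hpne1
    rw [← hsq]; ring

end Cfsg.Agent.Lib.Helper10.BW
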