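import Mathlib
import Cfsg.Agent.Lib.Helper19.BlkH1

/-!
S5634 (m ≥ 2), piece H1: `Cfsg.Agent.Lib.Helper61.Blk.stepH1` is provided by
`Cfsg.Agent.Lib.Helper19.BlkH1` (helper19 and helper6 proved it in parallel; to keep the
declaration name unique this module only re-exports helper19's).
-/
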