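import Mathlib.GroupTheory.Sylow
import Mathlib.GroupTheory.SpecificGroups.Dihedral
import Mathlib.GroupTheory.SpecificGroups.Cyclic
import Mathlib.GroupTheory.Complement
import Mathlib.Tactic

/-!
Groups `G` with a surjection `π : G → D_r` (`r` an odd prime) whose kernel is a `2`-group `Q`
with `C_Q(R) = 1` for a Sylow `r`-subgroup `R` (helper6, for S2873).
-/

set_option autoImplicit false

namespace Cfsg.Agent.Lib.Helper6

open Subgroup DihedralGroup

section Dih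
variable {r : ℕ} [Fact r.Prime]

theorem dq_two_ne_zero (hr : r ≠ 2) : (2 : ZMod r) ≠ 0 := by
  intro h
  have h2 : ((2 : ℕ) : ZMod r) = 0 := by exact_mod_cast h
  have h3 : r ∣ 2 := (ZMod.natCast_eq_zero_iff 2 r).mp h2
  exact hr ((Nat.prime_dvd_prime_iff_eq (Fact.out : r.Prime) Nat.prime_two).mp h3)

/-- In `D_r`, `r` an odd prime, a nontrivial element of square one is a reflection. -/
theorem dq_invol (hr : r ≠ 2) (x : DihedralGroup r) (hx : x * x = 1) (hx1 : x ≠ 1) :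
    ∃ i, x = sr i := by
  cases x with
  | r i =>
    exfalso
    rw [r_mul_r, one_def] at hx
    have h2 : i + i = 0 := by injection hx
    have h3 : (2 : ZMod r) * i = 0 := by rw [two_mul]; exact h2
    rcases mul_eq_zero.mp h3 with h | h
    · exact dq_two_ne_zero hr h
    · exact hx1 (by rw [h, r_zero])
  | sr i => exact ⟨i, rfl⟩

/-- In `D_r`, `r` an odd prime, an element with `x ^ r = 1` is a rotation. -/
theorem dq_rot (hr : r ≠ 2) (x : DihedralGroup r) (hx : x ^ r = 1) :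
    ∃ j, x = DihedralGroup.r j := by
  cases x with
  | r j => exact ⟨j, rfl⟩
  | sr i =>
    exfalso
    obtain ⟨m, hm⟩ := (Fact.out : r.Prime).odd_of_ne_two hr
    have hx' : sr i ^ (2 * m + 1) = 1 := by rw [← hm]; exact hx
    rw [pow_succ, pow_mul, pow_two, sr_mul_self, one_pow, one_mul, one_def] at hx'
    cases hx'

theorem dq_mem_rot {n : ℕ} [NeZero n] (x : DihedralGroup n) :
    x ∈ zpowers (DihedralGroup.r (1 : ZMod n)) ↔ ∃ j, x = DihedralGroup.r j := by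
  constructor
  · intro hx
    obtain ⟨k, rfl⟩ := mem_zpowers_iff.mp hx
    exact ⟨_, r_one_zpow k⟩
  · rintro ⟨j, rfl⟩
    have : DihedralGroup.r j = (DihedralGroup.r (1 : ZMod n)) ^ (j.val) := by
      rw [r_one_pow, ZMod.natCast_zmod_val]
    rw [this]
    exact pow_mem (mem_zpowers _) _

theorem dq_rot_normal {n : ℕ} [NeZero n] :
    (zpowers (DihedralGroup.r (1 : ZMod n))).Normal := by
  constructor
  intro x hx g
  obtain ⟨k, rfl⟩ := (dq_mem_rot x).mp hx
  rw [dq_mem_rot]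
  cases g with
  | r j => exact ⟨_, by rw [r_mul_r, inv_r, r_mul_r]⟩
  | sr j => exact ⟨_, by rw [sr_mul_r, inv_sr, sr_mul_sr]⟩

/-- In `D_r`, an element with `x ^ m = 1`, `m` odd, is a rotation. -/
theorem dq_rot_odd {n : ℕ} (x : DihedralGroup n) (m : ℕ) (hm : Odd m) (hx : x ^ m = 1) :
    ∃ j, x = DihedralGroup.r j := by
  cases x with
  | r j => exact ⟨j, rfl⟩
  | sr i =>
    exfalso
    obtain ⟨k, rfl⟩ := hm
    rw [pow_succ, pow_mul, pow_two, sr_mul_self, one_pow, one_mul, one_def] at hx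
    cases hx

theorem dq_r_ne_one {n : ℕ} (j : ZMod n) (hj : j ≠ 0) : DihedralGroup.r j ≠ 1 := by
  intro h
  rw [one_def] at h
  injection h with h
  exact hj h

theorem dq_r_eq_one {n : ℕ} (j : ZMod n) (h : DihedralGroup.r j = 1) : j = 0 := by
  rw [one_def] at h
  injection h

end Dih

section Grp
variable {G : Type*} [Group G] [Finite G] {r : ℕ} [Fact r.Prime]

/-- Elements of a Sylow `r`-subgroup map to rotations. -/
theorem dq_rot_of_mem (hr : r ≠ 2) (π : G →* DihedralGroup r) (R : Sylow r G) (x : G)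
    (hx : x ∈ R) : ∃ j, π x = DihedralGroup.r j := by
  obtain ⟨k, hk⟩ := R.isPGroup' ⟨x, hx⟩
  have hk' : x ^ r ^ k = 1 := by
    have := congrArg Subtype.val hk
    simpa using this
  apply dq_rot_odd (π x) (r ^ k) (((Fact.out : r.Prime).odd_of_ne_two hr).pow)
  rw [← map_pow, hk', map_one]

/-- `π` is injective on a Sylow `r`-subgroup. -/
theorem dq_R_inj (hr : r ≠ 2) (π : G →* DihedralGroup r) (hQ : IsPGroup 2 π.ker) (R : Sylow r G)
    (x y : G) (hx : x ∈ R) (hy : y ∈ R) (h : π x = π y) : x = y := by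
  haveI : Fact (Nat.Prime 2) := ⟨Nat.prime_two⟩
  have hd : Disjoint (R : Subgroup G) π.ker :=
    IsPGroup.disjoint_of_ne r 2 hr _ _ R.isPGroup' hQ
  have h1 : x⁻¹ * y ∈ (R : Subgroup G) := mul_mem (inv_mem hx) hy
  have h2 : x⁻¹ * y ∈ π.ker := by
    rw [MonoidHom.mem_ker, map_mul, map_inv, h, inv_mul_cancel]
  have h3 : x⁻¹ * y = 1 := by
    have := hd.le_bot (show x⁻¹ * y ∈ (R : Subgroup G) ⊓ π.ker from ⟨h1, h2⟩)
    simpa using this
  exact (inv_mul_eq_one.mp h3)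

/-- Every element of `R` is a power of any element of `R` with nontrivial image. -/
theorem dq_R_gen (hr : r ≠ 2) (π : G →* DihedralGroup r) (hQ : IsPGroup 2 π.ker) (R : Sylow r G)
    (w : G) (hw : w ∈ R) (hw1 : π w ≠ 1) (x : G) (hx : x ∈ R) : ∃ m : ℕ, x = w ^ m := by
  obtain ⟨j, hj⟩ := dq_rot_of_mem hr π R w hw
  obtain ⟨i, hi⟩ := dq_rot_of_mem hr π R x hx
  have hj0 : j ≠ 0 := by
    rintro rfl
    exact hw1 (by rw [hj, r_zero])
  refine ⟨(i * j⁻¹).val, ?_⟩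
  apply dq_R_inj hr π hQ R x _ hx (pow_mem hw _)
  rw [map_pow, hj, hi, r_pow, ZMod.natCast_zmod_val, mul_comm, inv_mul_cancel_right₀ hj0]

/-- Every rotation is the image of an element of `R`. -/
theorem dq_surj_rot (hr : r ≠ 2) (π : G →* DihedralGroup r) (hπ : Function.Surjective π)
    (hQ : IsPGroup 2 π.ker) (R : Sylow r G) (j : ZMod r) :
    ∃ x ∈ R, π x = DihedralGroup.r j := by
  have hdvd : r ∣ Nat.card G := by
    have h1 := Subgroup.card_dvd_of_surjective π hπ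
    rw [DihedralGroup.nat_card] at h1
    exact dvd_trans (dvd_mul_left r 2) h1
  have hne : (R : Subgroup G) ≠ ⊥ := R.ne_bot_of_dvd_card hdvd
  obtain ⟨x₀, hx₀, hx₀1⟩ : ∃ x₀ ∈ (R : Subgroup G), x₀ ≠ 1 := by
    by_contra hcon
    push Not at hcon
    exact hne ((Subgroup.eq_bot_iff_forall _).mpr hcon)
  obtain ⟨j₀, hj₀⟩ := dq_rot_of_mem hr π R x₀ hx₀
  have hj0 : j₀ ≠ 0 := by
    rintro rfl
    apply hx₀1
    apply dq_R_inj hr π hQ R x₀ 1 hx₀ (one_mem _)
    rw [hj₀, r_zero, map_one]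
  refine ⟨x₀ ^ (j * j₀⁻¹).val, pow_mem hx₀ _, ?_⟩
  rw [map_pow, hj₀, r_pow, ZMod.natCast_zmod_val, mul_comm, inv_mul_cancel_right₀ hj0]

/-- An element of `N_G(R)` in the kernel is trivial. -/
theorem dq_norm_ker (hr : r ≠ 2) (π : G →* DihedralGroup r) (hQ : IsPGroup 2 π.ker)
    (R : Sylow r G) (hC : π.ker ⊓ centralizer (R : Set G) = ⊥) (n : G)
    (hn : n ∈ normalizer (R : Set G)) (h : π n = 1) : n = 1 := by
  have h1 : n ∈ π.ker ⊓ centralizer (R : Set G) := by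
    refine Subgroup.mem_inf.mpr ⟨MonoidHom.mem_ker.mpr h, ?_⟩
    rw [mem_centralizer_iff]
    intro x hx
    have hx' : x ∈ (R : Subgroup G) := hx
    have h2 : n * x * n⁻¹ ∈ (R : Subgroup G) := (mem_normalizer_iff.mp hn x).mp hx'
    have h3 : n * x * n⁻¹ = x := by
      apply dq_R_inj hr π hQ R _ _ h2 hx'
      rw [map_mul, map_mul, map_inv, h, one_mul, inv_one, mul_one]
    calc x * n = n * x * n⁻¹ * n := by rw [h3]
      _ = n * x := by group
  rw [hC] at h1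
  exact (Subgroup.mem_bot.mp h1)

theorem dq_norm_inj (hr : r ≠ 2) (π : G →* DihedralGroup r) (hQ : IsPGroup 2 π.ker)
    (R : Sylow r G) (hC : π.ker ⊓ centralizer (R : Set G) = ⊥) (n₁ n₂ : G)
    (hn₁ : n₁ ∈ normalizer (R : Set G)) (hn₂ : n₂ ∈ normalizer (R : Set G))
    (h : π n₁ = π n₂) : n₁ = n₂ := by
  have h1 : n₁⁻¹ * n₂ = 1 := by
    apply dq_norm_ker hr π hQ R hC _ (mul_mem (inv_mem hn₁) hn₂)
    rw [map_mul, map_inv, h, inv_mul_cancel]
  exact inv_mul_eq_one.mp h1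

/-- Frattini: `N_G(R)` maps onto `D_r`. -/
theorem dq_norm_surj (hr : r ≠ 2) (π : G →* DihedralGroup r) (hπ : Function.Surjective π)
    (hQ : IsPGroup 2 π.ker) (R : Sylow r G) (d : DihedralGroup r) :
    ∃ n ∈ normalizer (R : Set G), π n = d := by
  haveI : NeZero r := ⟨(Fact.out : r.Prime).ne_zero⟩
  haveI hMn : (zpowers (DihedralGroup.r (1 : ZMod r))).Normal := dq_rot_normal
  let M : Subgroup G := (zpowers (DihedralGroup.r (1 : ZMod r))).comap π
  haveI : M.Normal := Subgroup.Normal.comap hMn π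
  have hRM : (R : Subgroup G) ≤ M := by
    intro x hx
    show π x ∈ zpowers (DihedralGroup.r (1 : ZMod r))
    rw [dq_mem_rot]
    exact dq_rot_of_mem hr π R x hx
  have htop := Sylow.normalizer_sup_eq_top' R hRM
  obtain ⟨g, rfl⟩ := hπ d
  have hg : g ∈ normalizer (R : Set G) ⊔ M := by rw [htop]; exact mem_top g
  obtain ⟨n, hn, m, hm, rfl⟩ := mem_sup_of_normal_right.mp hg
  have hm' : π m ∈ zpowers (DihedralGroup.r (1 : ZMod r)) := hm
  rw [dq_mem_rot] at hm'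
  obtain ⟨j, hj⟩ := hm'
  obtain ⟨x, hx, hxj⟩ := dq_surj_rot hr π hπ hQ R j
  refine ⟨n * x, mul_mem hn (le_normalizer hx), ?_⟩
  rw [map_mul, map_mul, hxj, hj]

/-- An element of `N_G(R)` mapping to a rotation lies in `R`. -/
theorem dq_rot_mem (hr : r ≠ 2) (π : G →* DihedralGroup r) (hπ : Function.Surjective π)
    (hQ : IsPGroup 2 π.ker) (R : Sylow r G) (hC : π.ker ⊓ centralizer (R : Set G) = ⊥)
    (n : G) (hn : n ∈ normalizer (R : Set G)) (j : ZMod r) (h : π n = DihedralGroup.r j) :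
    n ∈ R := by
  obtain ⟨x, hx, hxj⟩ := dq_surj_rot hr π hπ hQ R j
  have : n = x := dq_norm_inj hr π hQ R hC n x hn (le_normalizer hx) (by rw [h, hxj])
  rw [this]; exact hx

/-- An involution inverting a generator of `R` normalizes `R`. -/
theorem dq_inv_norm (hr : r ≠ 2) (π : G →* DihedralGroup r) (hQ : IsPGroup 2 π.ker)
    (R : Sylow r G) (w : G) (hw : w ∈ R) (hw1 : π w ≠ 1) (x : G) (hx : x * x = 1)
    (hxw : x * w * x⁻¹ = w⁻¹) : x ∈ normalizer (R : Set G) := by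
  have hxi : x⁻¹ = x := inv_eq_of_mul_eq_one_right hx
  have hfwd : ∀ h, h ∈ (R : Subgroup G) → x * h * x⁻¹ ∈ (R : Subgroup G) := by
    intro h hh
    obtain ⟨m, rfl⟩ := dq_R_gen hr π hQ R w hw hw1 h hh
    rw [← conj_pow, hxw]
    exact pow_mem (inv_mem hw) _
  refine (mem_normalizer_iff (H := (R : Subgroup G))).mpr ?_
  intro h
  refine ⟨hfwd h, fun hh => ?_⟩
  have := hfwd _ hh
  have e : x * (x * h * x⁻¹) * x⁻¹ = h := by
    rw [hxi]
    calc x * (x * h * x) * x = (x * x) * h * (x * x) := by group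
      _ = h := by rw [hx, one_mul, mul_one]
  rw [e] at this
  exact this

/-- Core lemma: two involutions mapping to distinct reflections are simultaneously conjugate
into `N_G(R)` by an element of the kernel. -/
theorem dq_core (hr : r ≠ 2) (π : G →* DihedralGroup r) (hπ : Function.Surjective π)
    (hQ : IsPGroup 2 π.ker) (R : Sylow r G)
    (x y : G) (hx : x * x = 1) (hy : y * y = 1) (i j : ZMod r) (hi : π x = sr i)
    (hj : π y = sr j) (hij : i ≠ j) :
    ∃ q, π q = 1 ∧ q⁻¹ * x * q ∈ normalizer (R : Set G) ∧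
      q⁻¹ * y * q ∈ normalizer (R : Set G) := by
  have hxi : x⁻¹ = x := inv_eq_of_mul_eq_one_right hx
  have hyi : y⁻¹ = y := inv_eq_of_mul_eq_one_right hy
  obtain ⟨z, hz⟩ : ∃ z, z = x * y := ⟨_, rfl⟩
  have hπz : π z = DihedralGroup.r (j - i) := by rw [hz, map_mul, hi, hj, sr_mul_sr]
  have hzr : z ^ r ∈ π.ker := by
    rw [MonoidHom.mem_ker, map_pow, hπz, r_pow, ZMod.natCast_self, mul_zero, r_zero]
  obtain ⟨e, he⟩ := hQ ⟨z ^ r, hzr⟩
  have he' : (z ^ r) ^ 2 ^ e = 1 := by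
    have := congrArg Subtype.val he
    simpa using this
  obtain ⟨w, hw⟩ : ∃ w, w = z ^ 2 ^ e := ⟨_, rfl⟩
  have hwr : w ^ r = 1 := by
    rw [hw, ← pow_mul, mul_comm, pow_mul]; exact he'
  have h2e : ((2 ^ e : ℕ) : ZMod r) ≠ 0 := by
    push_cast
    exact pow_ne_zero _ (dq_two_ne_zero hr)
  have hπw : π w = DihedralGroup.r ((j - i) * ((2 ^ e : ℕ) : ZMod r)) := by
    rw [hw, map_pow, hπz, r_pow]
  have hπw1 : π w ≠ 1 := by
    rw [hπw]
    apply dq_r_ne_one
    exact mul_ne_zero (sub_ne_zero.mpr (Ne.symm hij)) h2e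
  have hxz : x * z * x⁻¹ = z⁻¹ := by
    rw [hz, mul_inv_rev, hxi, hyi, ← mul_assoc, hx, one_mul]
  have hyz : y * z * y⁻¹ = z⁻¹ := by
    rw [hz, mul_inv_rev, hxi, hyi, mul_assoc, mul_assoc, hy, mul_one]
  have hxw : x * w * x⁻¹ = w⁻¹ := by
    rw [hw, ← conj_pow, hxz, inv_pow]
  have hyw : y * w * y⁻¹ = w⁻¹ := by
    rw [hw, ← conj_pow, hyz, inv_pow]
  have hP : IsPGroup r (zpowers w) := by
    rintro ⟨g, hg⟩
    obtain ⟨k, rfl⟩ := mem_zpowers_iff.mp hg
    refine ⟨1, ?_⟩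
    apply Subtype.ext
    show (w ^ k) ^ r ^ 1 = 1
    rw [pow_one, ← zpow_natCast, ← zpow_mul, mul_comm, zpow_mul, zpow_natCast, hwr, one_zpow]
  obtain ⟨P, hP'⟩ := hP.exists_le_sylow
  obtain ⟨g, hg⟩ := MulAction.exists_smul_eq G P R
  have hw₀ : g * w * g⁻¹ ∈ (R : Subgroup G) := by
    have h0 : g * w * g⁻¹ ∈ ((g • P : Sylow r G) : Subgroup G) := by
      rw [Sylow.coe_subgroup_smul]
      have := Subgroup.smul_mem_pointwise_smul w (MulAut.conj g) (P : Subgroup G)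
        (hP' (mem_zpowers w))
      simpa [MulAut.smul_def, MulAut.conj_apply] using this
    rw [hg] at h0
    exact h0
  have hw₀1 : π (g * w * g⁻¹) ≠ 1 := by
    intro h
    apply hπw1
    rw [map_mul, map_mul, map_inv] at h
    calc π w = (π g)⁻¹ * (π g * π w * (π g)⁻¹) * π g := by group
      _ = 1 := by rw [h]; group
  have hxN : g * x * g⁻¹ ∈ normalizer (R : Set G) := by
    apply dq_inv_norm hr π hQ R (g * w * g⁻¹) hw₀ hw₀1
    · calc g * x * g⁻¹ * (g * x * g⁻¹) = g * (x * x) * g⁻¹ := by group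
        _ = 1 := by rw [hx]; group
    · calc g * x * g⁻¹ * (g * w * g⁻¹) * (g * x * g⁻¹)⁻¹ = g * (x * w * x⁻¹) * g⁻¹ := by group
        _ = (g * w * g⁻¹)⁻¹ := by rw [hxw]; group
  have hyN : g * y * g⁻¹ ∈ normalizer (R : Set G) := by
    apply dq_inv_norm hr π hQ R (g * w * g⁻¹) hw₀ hw₀1
    · calc g * y * g⁻¹ * (g * y * g⁻¹) = g * (y * y) * g⁻¹ := by group
        _ = 1 := by rw [hy]; group
    · calc g * y * g⁻¹ * (g * w * g⁻¹) * (g * y * g⁻¹)⁻¹ = g * (y * w * y⁻¹) * g⁻¹ := by group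
        _ = (g * w * g⁻¹)⁻¹ := by rw [hyw]; group
  obtain ⟨n, hn, hπn⟩ := dq_norm_surj hr π hπ hQ R (π g)
  refine ⟨g⁻¹ * n, ?_, ?_, ?_⟩
  · rw [map_mul, map_inv, hπn, inv_mul_cancel]
  · have : (g⁻¹ * n)⁻¹ * x * (g⁻¹ * n) = n⁻¹ * (g * x * g⁻¹) * n := by group
    rw [this]
    exact mul_mem (mul_mem (inv_mem hn) hxN) hn
  · have : (g⁻¹ * n)⁻¹ * y * (g⁻¹ * n) = n⁻¹ * (g * y * g⁻¹) * n := by group
    rw [this]
    exact mul_mem (mul_mem (inv_mem hn) hyN) hn

/-- An element of the kernel commuting with two elements of `N_G(R)` that map to distinct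
reflections is trivial. -/
theorem dq_cent_triv (hr : r ≠ 2) (π : G →* DihedralGroup r) (hπ : Function.Surjective π)
    (hQ : IsPGroup 2 π.ker) (R : Sylow r G) (hC : π.ker ⊓ centralizer (R : Set G) = ⊥)
    (a a' : G) (ha : a ∈ normalizer (R : Set G)) (ha' : a' ∈ normalizer (R : Set G))
    (i i' : ZMod r) (hi : π a = sr i) (hi' : π a' = sr i') (hii : i ≠ i')
    (u : G) (hu : π u = 1) (hua : u * a = a * u) (hua' : u * a' = a' * u) : u = 1 := by
  have hm : a * a' ∈ (R : Subgroup G) := by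
    apply dq_rot_mem hr π hπ hQ R hC (a * a') (mul_mem ha ha') (i' - i)
    rw [map_mul, hi, hi', sr_mul_sr]
  have hm1 : π (a * a') ≠ 1 := by
    rw [map_mul, hi, hi', sr_mul_sr]
    exact dq_r_ne_one _ (sub_ne_zero.mpr (Ne.symm hii))
  have h1 : u ∈ π.ker ⊓ centralizer (R : Set G) := by
    refine Subgroup.mem_inf.mpr ⟨MonoidHom.mem_ker.mpr hu, ?_⟩
    rw [mem_centralizer_iff]
    intro x hx
    obtain ⟨m, rfl⟩ := dq_R_gen hr π hQ R (a * a') hm hm1 x hx
    have hc : Commute u (a * a') := Commute.mul_right hua hua'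
    exact (hc.pow_right m).eq.symm
  rw [hC] at h1
  exact Subgroup.mem_bot.mp h1

/-- Main theorem on groups with a `2`-group kernel `Q` onto `D_r`, `C_Q(R) = 1`. -/
theorem dq_main (hr : r ≠ 2) (π : G →* DihedralGroup r) (hπ : Function.Surjective π)
    (hQ : IsPGroup 2 π.ker) (R : Sylow r G) (hC : π.ker ⊓ centralizer (R : Set G) = ⊥) :
    Nonempty (↥(normalizer (R : Set G)) ≃* DihedralGroup r) ∧
    ∀ a ∈ normalizer (R : Set G), orderOf a = 2 →
      (∀ b, orderOf b = 2 → b ∉ π.ker → ∃ g, g * a * g⁻¹ = b) ∧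
      Nat.card ↥(π.ker ⊓ centralizer {a}) ^ 2 = Nat.card ↥π.ker := by
  constructor
  · refine ⟨MulEquiv.ofBijective (π.comp (normalizer (R : Set G)).subtype) ⟨?_, ?_⟩⟩
    · intro n₁ n₂ h
      apply Subtype.ext
      exact dq_norm_inj hr π hQ R hC n₁ n₂ n₁.2 n₂.2 h
    · intro d
      obtain ⟨n, hn, h⟩ := dq_norm_surj hr π hπ hQ R d
      exact ⟨⟨n, hn⟩, h⟩
  · intro a ha hoa
    have haa : a * a = 1 := by rw [← pow_two, ← hoa, pow_orderOf_eq_one]
    have ha1 : a ≠ 1 := by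
      rintro rfl
      rw [orderOf_one] at hoa
      exact absurd hoa (by norm_num)
    have hπa1 : π a ≠ 1 := fun h => ha1 (dq_norm_ker hr π hQ R hC a ha h)
    obtain ⟨i, hi⟩ := dq_invol hr (π a) (by rw [← map_mul, haa, map_one]) hπa1
    constructor
    · intro b hob hb
      have hbb : b * b = 1 := by rw [← pow_two, ← hob, pow_orderOf_eq_one]
      have hπb1 : π b ≠ 1 := fun h => hb (MonoidHom.mem_ker.mpr h)
      obtain ⟨j, hj⟩ := dq_invol hr (π b) (by rw [← map_mul, hbb, map_one]) hπb1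
      obtain ⟨n', hn', hπn'⟩ := dq_norm_surj hr π hπ hQ R (sr (j + 1))
      have hn'n' : n' * n' = 1 := by
        apply dq_norm_inj hr π hQ R hC _ _ (mul_mem hn' hn') (one_mem _)
        rw [map_mul, hπn', sr_mul_self, map_one]
      obtain ⟨q, hq, hqb, -⟩ :=
        dq_core hr π hπ hQ R b n' hbb hn'n' j (j + 1) hj hπn' (by simp)
      obtain ⟨n, hn, hπn⟩ := dq_norm_surj hr π hπ hQ R (DihedralGroup.r ((i - j) * 2⁻¹))
      have key : n * a * n⁻¹ = q⁻¹ * b * q := by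
        apply dq_norm_inj hr π hQ R hC _ _ (mul_mem (mul_mem hn ha) (inv_mem hn)) hqb
        rw [map_mul, map_mul, map_inv, map_mul, map_mul, map_inv, hq, hπn, hi, hj, inv_one,
          one_mul, mul_one, inv_r, r_mul_sr, sr_mul_r]
        congr 1
        have h2 := dq_two_ne_zero hr
        field_simp
        ring
      refine ⟨q * n, ?_⟩
      calc q * n * a * (q * n)⁻¹ = q * (n * a * n⁻¹) * q⁻¹ := by group
        _ = b := by rw [key]; group
    · obtain ⟨n₁, hn₁, hπn₁⟩ := dq_norm_surj hr π hπ hQ R (DihedralGroup.r 1)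
      obtain ⟨a', ha'def⟩ : ∃ a', a' = n₁ * a * n₁⁻¹ := ⟨_, rfl⟩
      have ha' : a' ∈ normalizer (R : Set G) := by
        rw [ha'def]; exact mul_mem (mul_mem hn₁ ha) (inv_mem hn₁)
      have hπa' : π a' = sr (i - 2) := by
        rw [ha'def, map_mul, map_mul, map_inv, hπn₁, hi, inv_r, r_mul_sr, sr_mul_r]
        congr 1
        ring
      have hii' : i ≠ i - 2 := by
        intro h
        apply dq_two_ne_zero hr
        linear_combination h
      have ha'a' : a' * a' = 1 := by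
        rw [ha'def]
        calc n₁ * a * n₁⁻¹ * (n₁ * a * n₁⁻¹) = n₁ * (a * a) * n₁⁻¹ := by group
          _ = 1 := by rw [haa]; group
      have hconj : ∀ v : G, v * a = a * v →
          (n₁ * v * n₁⁻¹) * a' = a' * (n₁ * v * n₁⁻¹) := by
        intro v hv
        rw [ha'def]
        calc n₁ * v * n₁⁻¹ * (n₁ * a * n₁⁻¹) = n₁ * (v * a) * n₁⁻¹ := by group
          _ = n₁ * (a * v) * n₁⁻¹ := by rw [hv]
          _ = n₁ * a * n₁⁻¹ * (n₁ * v * n₁⁻¹) := by group
      have hker : ∀ v : G, π v = 1 → π (n₁ * v * n₁⁻¹) = 1 := by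
        intro v hv
        rw [map_mul, map_mul, map_inv, hv, mul_one, mul_inv_cancel]
      let f : ↥(π.ker ⊓ centralizer {a}) × ↥(π.ker ⊓ centralizer {a}) → ↥π.ker := fun p =>
        ⟨p.1.1 * (n₁ * p.2.1 * n₁⁻¹), by
          rw [MonoidHom.mem_ker, map_mul,
            hker _ (MonoidHom.mem_ker.mp (Subgroup.mem_inf.mp p.2.2).1), mul_one]
          exact MonoidHom.mem_ker.mp (Subgroup.mem_inf.mp p.1.2).1⟩
      have hbij : Function.Bijective f := by
        constructor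
        · rintro ⟨⟨c₁, hc₁⟩, ⟨c₂, hc₂⟩⟩ ⟨⟨d₁, hd₁⟩, ⟨d₂, hd₂⟩⟩ h
          have h' : c₁ * (n₁ * c₂ * n₁⁻¹) = d₁ * (n₁ * d₂ * n₁⁻¹) := congrArg Subtype.val h
          obtain ⟨hc₁k, hc₁c⟩ := Subgroup.mem_inf.mp hc₁
          obtain ⟨hc₂k, hc₂c⟩ := Subgroup.mem_inf.mp hc₂
          obtain ⟨hd₁k, hd₁c⟩ := Subgroup.mem_inf.mp hd₁
          obtain ⟨hd₂k, hd₂c⟩ := Subgroup.mem_inf.mp hd₂
          have hu_eq : d₁⁻¹ * c₁ = n₁ * (d₂ * c₂⁻¹) * n₁⁻¹ := by
            calc d₁⁻¹ * c₁ = d₁⁻¹ * (c₁ * (n₁ * c₂ * n₁⁻¹)) * (n₁ * c₂ * n₁⁻¹)⁻¹ := by group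
              _ = d₁⁻¹ * (d₁ * (n₁ * d₂ * n₁⁻¹)) * (n₁ * c₂ * n₁⁻¹)⁻¹ := by rw [h']
              _ = n₁ * (d₂ * c₂⁻¹) * n₁⁻¹ := by group
          have hu1 : d₁⁻¹ * c₁ = 1 := by
            apply dq_cent_triv hr π hπ hQ R hC a a' ha ha' i (i - 2) hi hπa' hii' (d₁⁻¹ * c₁)
            · rw [map_mul, map_inv, MonoidHom.mem_ker.mp hd₁k, MonoidHom.mem_ker.mp hc₁k,
                inv_one, one_mul]
            · exact mem_centralizer_singleton_iff.mp (mul_mem (inv_mem hd₁c) hc₁c)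
            · rw [hu_eq]
              exact hconj _ (mem_centralizer_singleton_iff.mp (mul_mem hd₂c (inv_mem hc₂c)))
          have hv1 : d₂ * c₂⁻¹ = 1 := by
            rw [hu1] at hu_eq
            calc d₂ * c₂⁻¹ = n₁⁻¹ * (n₁ * (d₂ * c₂⁻¹) * n₁⁻¹) * n₁ := by group
              _ = 1 := by rw [← hu_eq]; group
          have e1 : c₁ = d₁ := (inv_mul_eq_one.mp hu1).symm
          have e2 : c₂ = d₂ := (mul_inv_eq_one.mp hv1).symm
          subst e1 e2
          rfl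
        · rintro ⟨q, hq⟩
          have hq1 : π q = 1 := MonoidHom.mem_ker.mp hq
          obtain ⟨q₀, hq₀, hq₀a, hq₀y⟩ := dq_core hr π hπ hQ R a (q * a' * q⁻¹) haa (by
              calc q * a' * q⁻¹ * (q * a' * q⁻¹) = q * (a' * a') * q⁻¹ := by group
                _ = 1 := by rw [ha'a']; group) i (i - 2) hi (by
              rw [map_mul, map_mul, map_inv, hq1, one_mul, inv_one, mul_one, hπa']) hii'
          have e1 : q₀⁻¹ * a * q₀ = a := by
            apply dq_norm_inj hr π hQ R hC _ _ hq₀a ha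
            rw [map_mul, map_mul, map_inv, hq₀, inv_one, one_mul, mul_one]
          have e2 : q₀⁻¹ * (q * a' * q⁻¹) * q₀ = a' := by
            apply dq_norm_inj hr π hQ R hC _ _ hq₀y ha'
            rw [map_mul, map_mul, map_inv, map_mul, map_mul, map_inv, hq₀, hq1, inv_one,
              one_mul, mul_one, one_mul, mul_one]
          have hq₀c : q₀ * a = a * q₀ := by
            calc q₀ * a = q₀ * (q₀⁻¹ * a * q₀) := by rw [e1]
              _ = a * q₀ := by group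
          have hc₂c : (n₁⁻¹ * (q₀⁻¹ * q) * n₁) * a = a * (n₁⁻¹ * (q₀⁻¹ * q) * n₁) := by
            have e3 : (q₀⁻¹ * q) * a' = a' * (q₀⁻¹ * q) := by
              calc (q₀⁻¹ * q) * a' = (q₀⁻¹ * (q * a' * q⁻¹) * q₀) * (q₀⁻¹ * q) := by group
                _ = a' * (q₀⁻¹ * q) := by rw [e2]
            rw [ha'def] at e3
            calc n₁⁻¹ * (q₀⁻¹ * q) * n₁ * a
                = n₁⁻¹ * ((q₀⁻¹ * q) * (n₁ * a * n₁⁻¹)) * n₁ := by group
              _ = n₁⁻¹ * ((n₁ * a * n₁⁻¹) * (q₀⁻¹ * q)) * n₁ := by rw [e3]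
              _ = a * (n₁⁻¹ * (q₀⁻¹ * q) * n₁) := by group
          have hc₂k : π (n₁⁻¹ * (q₀⁻¹ * q) * n₁) = 1 := by
            rw [map_mul, map_mul, map_mul, map_inv, map_inv, hq₀, hq1, inv_one, one_mul,
              mul_one, inv_mul_cancel]
          refine ⟨(⟨q₀, Subgroup.mem_inf.mpr ⟨MonoidHom.mem_ker.mpr hq₀,
              mem_centralizer_singleton_iff.mpr hq₀c⟩⟩,
            ⟨n₁⁻¹ * (q₀⁻¹ * q) * n₁, Subgroup.mem_inf.mpr ⟨MonoidHom.mem_ker.mpr hc₂k,
              mem_centralizer_singleton_iff.mpr hc₂c⟩⟩), ?_⟩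
          apply Subtype.ext
          show q₀ * (n₁ * (n₁⁻¹ * (q₀⁻¹ * q) * n₁) * n₁⁻¹) = q
          group
      have hcard := Nat.card_congr (Equiv.ofBijective f hbij)
      rw [Nat.card_prod] at hcard
      rw [pow_two, hcard]

end Grp

end Cfsg.Agent.Lib.Helper6
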