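import Mathlib

/-!
# S2049 (helper70 project), piece HeM-XOR (helper6)

`eOf v i` is the product of the `v k` over the bits `k` of `i : Fin 64`; for six commuting
involutions it is multiplicative with respect to xor.
-/

set_option autoImplicit false

open scoped commutatorElement

universe u v

namespace Cfsg.Agent.Lib.Helper6.HeMXOR

/-- the product of the `v k` over the bits `k` of `i` -/
def eOf {G : Type u} [Group G] (v : Fin 6 → G) (i : Fin 64) : G :=
  (if i.val.testBit 0 then v 0 else 1) * (if i.val.testBit 1 then v 1 else 1) *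
    (if i.val.testBit 2 then v 2 else 1) * (if i.val.testBit 3 then v 3 else 1) *
    (if i.val.testBit 4 then v 4 else 1) * (if i.val.testBit 5 then v 5 else 1)

theorem testBit_fin_xor (i j : Fin 64) (k : ℕ) (hk : k < 6) :
    (i ^^^ j).val.testBit k = (i.val.testBit k ^^ j.val.testBit k) := by
  rw [Fin.xor_val]
  have h := Nat.testBit_mod_two_pow (i.val ^^^ j.val) 6 k
  have h64 : (2 : ℕ) ^ 6 = 64 := by norm_num
  rw [h64] at h
  rw [h, Nat.testBit_xor]
  simp [hk]

theorem ite_mul_ite {G : Type u} [Group G] (x : G) (hx : x * x = 1) (p q : Bool) :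
    (if p then x else 1) * (if q then x else 1) = if (p ^^ q) then x else 1 := by
  cases p <;> cases q <;> simp [hx]

theorem rearr6 {G : Type u} [Group G] (a0 a1 a2 a3 a4 a5 b0 b1 b2 b3 b4 b5 : G)
    (h10 : Commute a1 b0)
    (h20 : Commute a2 b0) (h21 : Commute a2 b1)
    (h30 : Commute a3 b0) (h31 : Commute a3 b1) (h32 : Commute a3 b2)
    (h40 : Commute a4 b0) (h41 : Commute a4 b1) (h42 : Commute a4 b2) (h43 : Commute a4 b3)
    (h50 : Commute a5 b0) (h51 : Commute a5 b1) (h52 : Commute a5 b2) (h53 : Commute a5 b3)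
    (h54 : Commute a5 b4) :
    (a0 * a1 * a2 * a3 * a4 * a5) * (b0 * b1 * b2 * b3 * b4 * b5) =
      (a0 * b0) * (a1 * b1) * (a2 * b2) * (a3 * b3) * (a4 * b4) * (a5 * b5) := by
  rw [Commute.mul_mul_mul_comm
    ((((h50.mul_right h51).mul_right h52).mul_right h53).mul_right h54)]
  rw [Commute.mul_mul_mul_comm (((h40.mul_right h41).mul_right h42).mul_right h43)]
  rw [Commute.mul_mul_mul_comm ((h30.mul_right h31).mul_right h32)]
  rw [Commute.mul_mul_mul_comm (h20.mul_right h21)]
  rw [Commute.mul_mul_mul_comm h10]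

theorem commute_ite {G : Type u} [Group G] (x y : G) (h : x * y = y * x) (p q : Bool) :
    Commute (if p then x else 1) (if q then y else 1) := by
  cases p <;> cases q <;> simp [Commute, SemiconjBy, h]

theorem eOf_xor {G : Type u} [Group G] (v : Fin 6 → G) (hv2 : ∀ k, v k * v k = 1)
    (hvc : ∀ k l, v k * v l = v l * v k) (i j : Fin 64) :
    eOf v i * eOf v j = eOf v (i ^^^ j) := by
  unfold eOf
  rw [rearr6 _ _ _ _ _ _ _ _ _ _ _ _
    (commute_ite _ _ (hvc 1 0) _ _)
    (commute_ite _ _ (hvc 2 0) _ _) (commute_ite _ _ (hvc 2 1) _ _)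
    (commute_ite _ _ (hvc 3 0) _ _) (commute_ite _ _ (hvc 3 1) _ _)
    (commute_ite _ _ (hvc 3 2) _ _)
    (commute_ite _ _ (hvc 4 0) _ _) (commute_ite _ _ (hvc 4 1) _ _)
    (commute_ite _ _ (hvc 4 2) _ _) (commute_ite _ _ (hvc 4 3) _ _)
    (commute_ite _ _ (hvc 5 0) _ _) (commute_ite _ _ (hvc 5 1) _ _)
    (commute_ite _ _ (hvc 5 2) _ _) (commute_ite _ _ (hvc 5 3) _ _)
    (commute_ite _ _ (hvc 5 4) _ _)]
  rw [ite_mul_ite _ (hv2 0), ite_mul_ite _ (hv2 1), ite_mul_ite _ (hv2 2), ite_mul_ite _ (hv2 3),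
    ite_mul_ite _ (hv2 4), ite_mul_ite _ (hv2 5)]
  rw [testBit_fin_xor i j 0 (by norm_num), testBit_fin_xor i j 1 (by norm_num),
    testBit_fin_xor i j 2 (by norm_num), testBit_fin_xor i j 3 (by norm_num),
    testBit_fin_xor i j 4 (by norm_num), testBit_fin_xor i j 5 (by norm_num)]

end Cfsg.Agent.Lib.Helper6.HeMXOR
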