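import Mathlib

/-!
# Project QB (helper48, S2359): piece PRED (backup copy by helper6)

Reduction to elements of prime order: a nontrivial `n`-torsion element has the same centralizer
as one of its powers of prime order, provided the centralizers of `n`-torsion elements of prime
order are commutative.
-/

set_option autoImplicit false

namespace Cfsg.Agent.Lib.Helper48.QB

-- QB-PRED
theorem prime_red {G : Type*} [Group G] [Finite G] (n : ℕ)
    (hkey : ∀ y : G, (orderOf y).Prime → y ^ n = 1 →
      ∀ a ∈ Subgroup.centralizer {y}, ∀ b ∈ Subgroup.centralizer {y}, a * b = b * a)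
    (x : G) (hx : x ≠ 1) (hxn : x ^ n = 1) :
    ∃ y : G, (orderOf y).Prime ∧ y ^ n = 1 ∧
      Subgroup.centralizer {x} = Subgroup.centralizer {y} := by
  have ho0 : orderOf x ≠ 0 := (orderOf_pos x).ne'
  have ho1 : orderOf x ≠ 1 := fun h => hx (orderOf_eq_one_iff.mp h)
  have hr : (orderOf x).minFac.Prime := Nat.minFac_prime ho1
  have hdvd : (orderOf x).minFac ∣ orderOf x := Nat.minFac_dvd _
  have hy : orderOf (x ^ (orderOf x / (orderOf x).minFac)) = (orderOf x).minFac :=
    orderOf_pow_orderOf_div ho0 hdvd
  refine ⟨x ^ (orderOf x / (orderOf x).minFac), ?_, ?_, ?_⟩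
  · rw [hy]
    exact hr
  · rw [← pow_mul, mul_comm, pow_mul, hxn, one_pow]
  · have hkey' := hkey (x ^ (orderOf x / (orderOf x).minFac)) (by rw [hy]; exact hr)
      (by rw [← pow_mul, mul_comm, pow_mul, hxn, one_pow])
    have hxmem : x ∈ Subgroup.centralizer {x ^ (orderOf x / (orderOf x).minFac)} := by
      rw [Subgroup.mem_centralizer_iff]
      intro h hh
      rw [Set.mem_singleton_iff] at hh
      rw [hh, ← pow_succ, ← pow_succ']
    apply le_antisymm
    · intro c hc
      rw [Subgroup.mem_centralizer_iff] at hc ⊢
      intro h hh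
      rw [Set.mem_singleton_iff] at hh
      have hcx : Commute x c := hc x (Set.mem_singleton x)
      rw [hh]
      exact (hcx.pow_left _).eq
    · intro c hc
      rw [Subgroup.mem_centralizer_iff]
      intro h hh
      rw [Set.mem_singleton_iff] at hh
      rw [hh]
      exact hkey' x hxmem c hc

end Cfsg.Agent.Lib.Helper48.QB
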