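import Mathlib
import Cfsg.Agent.Lib.Helper18.Symp

set_option autoImplicit false

namespace Cfsg.Agent.Lib.Helper6

open Cfsg.Agent.Lib.Helper18

universe u v

section SpCard

variable {F : Type u} [Field F] {V : Type v} [AddCommGroup V] [Module F V]

/-- isometries of a bilinear form, as a set of linear endomorphisms -/
def Isom (B : LinearMap.BilinForm F V) : Set (V →ₗ[F] V) := {g | ∀ x y, B (g x) (g y) = B x y}

/-- left-separating -/
def SepL (B : LinearMap.BilinForm F V) : Prop := ∀ u, (∀ v, B u v = 0) → u = 0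

/-- isometries fixing two given vectors -/
def Stab (B : LinearMap.BilinForm F V) (u₀ v₀ : V) : Set (V →ₗ[F] V) :=
  {g | (∀ x y, B (g x) (g y) = B x y) ∧ g u₀ = u₀ ∧ g v₀ = v₀}

theorem exists_partner {B : LinearMap.BilinForm F V} (hnd : SepL B) (u : V) (hu : u ≠ 0) :
    ∃ v, B u v = 1 := by
  by_contra hcon
  push Not at hcon
  apply hu
  apply hnd
  intro v
  by_contra h0
  apply hcon ((B u v)⁻¹ • v)
  rw [map_smul, smul_eq_mul, inv_mul_cancel₀ h0]

theorem card_ne_zero_sub [Finite V] : Nat.card {u : V // u ≠ 0} = Nat.card V - 1 := by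
  classical
  have h := Nat.card_congr (Equiv.optionSubtypeNe (0 : V))
  rw [Finite.card_option] at h
  omega

theorem card_pairs [Finite F] [Finite V] {B : LinearMap.BilinForm F V} (hnd : SepL B) :
    Nat.card F * Nat.card {p : V × V // B p.1 p.2 = 1} = (Nat.card V - 1) * Nat.card V := by
  classical
  choose! w hw using exists_partner hnd
  have hne : ∀ p : {p : V × V // B p.1 p.2 = 1}, p.1.1 ≠ 0 := by
    intro p h
    have h2 := p.2
    rw [h] at h2
    simp at h2
  have e : F × {p : V × V // B p.1 p.2 = 1} ≃ {u : V // u ≠ 0} × V :=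
    { toFun := fun x => (⟨x.2.1.1, hne x.2⟩, x.2.1.2 + (x.1 - 1) • w x.2.1.1)
      invFun := fun y => (B y.1.1 y.2, ⟨(y.1.1, y.2 - (B y.1.1 y.2 - 1) • w y.1.1), by
        simp only [map_sub, map_smul, smul_eq_mul, hw _ y.1.2]
        ring⟩)
      left_inv := by
        rintro ⟨c, ⟨⟨u, v⟩, h⟩⟩
        have hu : u ≠ 0 := hne ⟨⟨u, v⟩, h⟩
        have h' : B u v = 1 := h
        have h1 : B u (v + (c - 1) • w u) = c := by
          simp only [map_add, map_smul, smul_eq_mul, hw _ hu, h']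
          ring
        refine Prod.ext ?_ (Subtype.ext (Prod.ext rfl ?_))
        · exact h1
        · show v + (c - 1) • w u - (B u (v + (c - 1) • w u) - 1) • w u = v
          rw [h1]
          abel
      right_inv := by
        rintro ⟨⟨u, hu⟩, y⟩
        refine Prod.ext rfl ?_
        show y - (B u y - 1) • w u + (B u y - 1) • w u = y
        abel }
  rw [← Nat.card_prod, Nat.card_congr e, Nat.card_prod, card_ne_zero_sub]

theorem isom_mul {B : LinearMap.BilinForm F V} {g h : V →ₗ[F] V}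
    (hg : ∀ x y, B (g x) (g y) = B x y) (hh : ∀ x y, B (h x) (h y) = B x y) :
    ∀ x y, B ((g * h) x) ((g * h) y) = B x y := by
  intro x y
  rw [Module.End.mul_apply, Module.End.mul_apply, hg, hh]

theorem card_isom_eq {B : LinearMap.BilinForm F V} (hB : B.IsAlt) (u₀ v₀ : V)
    (h0 : B u₀ v₀ = 1) :
    Nat.card (Isom B) = Nat.card {p : V × V // B p.1 p.2 = 1} * Nat.card (Stab B u₀ v₀) := by
  classical
  have hex : ∀ p : {p : V × V // B p.1 p.2 = 1}, ∃ g g' : V →ₗ[F] V,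
      (∀ x y, B (g x) (g y) = B x y) ∧ (∀ x y, B (g' x) (g' y) = B x y) ∧ g' * g = 1 ∧
        g * g' = 1 ∧ g u₀ = p.1.1 ∧ g v₀ = p.1.2 := by
    intro p
    obtain ⟨g, hg, h1, h2⟩ := exists_TP_pair hB u₀ v₀ p.1.1 p.1.2 h0 p.2
    obtain ⟨g', hg', h3, h4⟩ := TP_inv hB hg
    exact ⟨g, g', TP_isometry hB hg, TP_isometry hB hg', h3, h4, h1, h2⟩
  choose γ γ' hγ hγ' h3 h4 h1 h2 using hex
  let pairOf : Isom B → {p : V × V // B p.1 p.2 = 1} :=
    fun g => ⟨(g.1 u₀, g.1 v₀), by show B (g.1 u₀) (g.1 v₀) = 1; rw [g.2, h0]⟩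
  rw [← Nat.card_prod]
  refine Nat.card_congr ?_
  exact
    { toFun := fun g => (pairOf g, ⟨γ' (pairOf g) * g.1, isom_mul (hγ' _) g.2, by
          rw [Module.End.mul_apply]
          have : g.1 u₀ = γ (pairOf g) u₀ := (h1 (pairOf g)).symm
          rw [this, ← Module.End.mul_apply, h3]
          rfl, by
          rw [Module.End.mul_apply]
          have : g.1 v₀ = γ (pairOf g) v₀ := (h2 (pairOf g)).symm
          rw [this, ← Module.End.mul_apply, h3]
          rfl⟩)
      invFun := fun y => ⟨γ y.1 * y.2.1, isom_mul (hγ _) y.2.2.1⟩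
      left_inv := by
        intro g
        apply Subtype.ext
        show γ (pairOf g) * (γ' (pairOf g) * g.1) = g.1
        rw [← mul_assoc, h4, one_mul]
      right_inv := by
        rintro ⟨p, ⟨s, hs, hsu, hsv⟩⟩
        have hp : pairOf ⟨γ p * s, isom_mul (hγ _) hs⟩ = p := by
          apply Subtype.ext
          apply Prod.ext
          · show (γ p * s) u₀ = p.1.1
            rw [Module.End.mul_apply, hsu, h1]
          · show (γ p * s) v₀ = p.1.2
            rw [Module.End.mul_apply, hsv, h2]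
        refine Prod.ext hp (Subtype.ext ?_)
        show γ' (pairOf ⟨γ p * s, isom_mul (hγ _) hs⟩) * (γ p * s) = s
        rw [hp, ← mul_assoc, h3, one_mul] }

/-- the orthogonal complement of a hyperbolic pair -/
def Wsub (B : LinearMap.BilinForm F V) (u₀ v₀ : V) : Submodule F V :=
  LinearMap.ker (B u₀) ⊓ LinearMap.ker (B.flip v₀)

theorem mem_Wsub {B : LinearMap.BilinForm F V} {u₀ v₀ x : V} :
    x ∈ Wsub B u₀ v₀ ↔ B u₀ x = 0 ∧ B x v₀ = 0 := by
  simp [Wsub]

theorem Wsub_left {B : LinearMap.BilinForm F V} (hB : B.IsAlt) {u₀ v₀ x : V}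
    (hx : x ∈ Wsub B u₀ v₀) : B x u₀ = 0 := by
  rw [← hB.neg_eq u₀ x, (mem_Wsub.mp hx).1, neg_zero]

theorem Wsub_right {B : LinearMap.BilinForm F V} (hB : B.IsAlt) {u₀ v₀ x : V}
    (hx : x ∈ Wsub B u₀ v₀) : B v₀ x = 0 := by
  rw [← hB.neg_eq x v₀, (mem_Wsub.mp hx).2, neg_zero]

/-- the projection to `Wsub` as a plain linear endomorphism -/
def projV (B : LinearMap.BilinForm F V) (u₀ v₀ : V) : V →ₗ[F] V :=
  LinearMap.id - (B.flip v₀).smulRight u₀ - (B u₀).smulRight v₀

theorem projV_apply (B : LinearMap.BilinForm F V) (u₀ v₀ x : V) :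
    projV B u₀ v₀ x = x - B x v₀ • u₀ - B u₀ x • v₀ := by
  simp [projV]

theorem projV_mem {B : LinearMap.BilinForm F V} (hB : B.IsAlt) {u₀ v₀ : V} (h0 : B u₀ v₀ = 1)
    (x : V) : projV B u₀ v₀ x ∈ Wsub B u₀ v₀ := by
  rw [mem_Wsub, projV_apply]
  have h1 : B u₀ u₀ = 0 := hB.self_eq_zero u₀
  have h2 : B v₀ v₀ = 0 := hB.self_eq_zero v₀
  constructor
  · simp only [map_sub, map_smul, smul_eq_mul, h1, h0]
    ring
  · simp only [map_sub, map_smul, LinearMap.sub_apply, LinearMap.smul_apply, smul_eq_mul, h2, h0]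
    ring

/-- the projection to `Wsub` -/
def projW (B : LinearMap.BilinForm F V) (hB : B.IsAlt) (u₀ v₀ : V) (h0 : B u₀ v₀ = 1) :
    V →ₗ[F] Wsub B u₀ v₀ :=
  LinearMap.codRestrict (Wsub B u₀ v₀) (projV B u₀ v₀) (projV_mem hB h0)

theorem projW_coe (B : LinearMap.BilinForm F V) (hB : B.IsAlt) (u₀ v₀ : V) (h0 : B u₀ v₀ = 1)
    (x : V) : (projW B hB u₀ v₀ h0 x : V) = x - B x v₀ • u₀ - B u₀ x • v₀ := by
  rw [← projV_apply]
  rfl

theorem decomp (B : LinearMap.BilinForm F V) (hB : B.IsAlt) (u₀ v₀ : V) (h0 : B u₀ v₀ = 1)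
    (x : V) : B x v₀ • u₀ + B u₀ x • v₀ + (projW B hB u₀ v₀ h0 x : V) = x := by
  rw [projW_coe]
  abel

theorem projW_of_mem (B : LinearMap.BilinForm F V) (hB : B.IsAlt) (u₀ v₀ : V) (h0 : B u₀ v₀ = 1)
    (w : Wsub B u₀ v₀) : projW B hB u₀ v₀ h0 (w : V) = w := by
  apply Subtype.ext
  rw [projW_coe, (mem_Wsub.mp w.2).1, (mem_Wsub.mp w.2).2]
  simp

theorem expand {B : LinearMap.BilinForm F V} (hB : B.IsAlt) {u₀ v₀ : V} (h0 : B u₀ v₀ = 1)
    (a b a' b' : F) (w w' : V) (hw : w ∈ Wsub B u₀ v₀) (hw' : w' ∈ Wsub B u₀ v₀) :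
    B (a • u₀ + b • v₀ + w) (a' • u₀ + b' • v₀ + w') = a * b' - b * a' + B w w' := by
  have h1 : B u₀ u₀ = 0 := hB.self_eq_zero u₀
  have h2 : B v₀ v₀ = 0 := hB.self_eq_zero v₀
  have h3 : B v₀ u₀ = -1 := by rw [← hB.neg_eq u₀ v₀, h0]
  have h4 : B u₀ w' = 0 := (mem_Wsub.mp hw').1
  have h5 : B w v₀ = 0 := (mem_Wsub.mp hw).2
  have h6 : B v₀ w' = 0 := Wsub_right hB hw'
  have h7 : B w u₀ = 0 := Wsub_left hB hw
  simp only [map_add, map_smul, LinearMap.add_apply, LinearMap.smul_apply, smul_eq_mul,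
    h0, h1, h2, h3, h4, h5, h6, h7]
  ring

theorem restr_apply (B : LinearMap.BilinForm F V) (W : Submodule F V) (x y : W) :
    B.restrict W x y = B (x : V) (y : V) := rfl

theorem isAlt_restrict {B : LinearMap.BilinForm F V} (hB : B.IsAlt) (W : Submodule F V) :
    (B.restrict W).IsAlt := fun x => hB (x : V)

theorem sepL_restrict {B : LinearMap.BilinForm F V} (hB : B.IsAlt) (hnd : SepL B) (u₀ v₀ : V)
    (h0 : B u₀ v₀ = 1) : SepL (B.restrict (Wsub B u₀ v₀)) := by
  intro w hw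
  apply Subtype.ext
  apply hnd
  intro x
  rw [← decomp B hB u₀ v₀ h0 x]
  have h1 := hw (projW B hB u₀ v₀ h0 x)
  rw [restr_apply] at h1
  simp only [map_add, map_smul, smul_eq_mul, Wsub_left hB w.2, (mem_Wsub.mp w.2).2, h1]
  simp

theorem card_decomp [Finite F] [Finite V] {B : LinearMap.BilinForm F V} (hB : B.IsAlt) (u₀ v₀ : V)
    (h0 : B u₀ v₀ = 1) : Nat.card V = Nat.card F * Nat.card F * Nat.card (Wsub B u₀ v₀) := by
  have h1 : B u₀ u₀ = 0 := hB.self_eq_zero u₀
  have h2 : B v₀ v₀ = 0 := hB.self_eq_zero v₀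
  have h3 : B v₀ u₀ = -1 := by rw [← hB.neg_eq u₀ v₀, h0]
  have e : V ≃ (F × F) × Wsub B u₀ v₀ :=
    { toFun := fun x => ((B x v₀, B u₀ x), projW B hB u₀ v₀ h0 x)
      invFun := fun y => y.1.1 • u₀ + y.1.2 • v₀ + (y.2 : V)
      left_inv := fun x => decomp B hB u₀ v₀ h0 x
      right_inv := by
        rintro ⟨⟨a, b⟩, w⟩
        have e1 : B (a • u₀ + b • v₀ + (w : V)) v₀ = a := by
          simp only [map_add, map_smul, LinearMap.add_apply, LinearMap.smul_apply, smul_eq_mul,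
            h0, h2, (mem_Wsub.mp w.2).2]
          ring
        have e2 : B u₀ (a • u₀ + b • v₀ + (w : V)) = b := by
          simp only [map_add, map_smul, smul_eq_mul, h0, h1, (mem_Wsub.mp w.2).1]
          ring
        refine Prod.ext (Prod.ext e1 e2) (Subtype.ext ?_)
        show (projW B hB u₀ v₀ h0 (a • u₀ + b • v₀ + (w : V)) : V) = w
        rw [projW_coe, e1, e2]
        abel }
  rw [Nat.card_congr e, Nat.card_prod, Nat.card_prod]

theorem stab_maps {B : LinearMap.BilinForm F V} {u₀ v₀ : V} {g : V →ₗ[F] V}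
    (hg : g ∈ Stab B u₀ v₀) : ∀ x ∈ Wsub B u₀ v₀, g x ∈ Wsub B u₀ v₀ := by
  intro x hx
  rw [mem_Wsub] at hx ⊢
  obtain ⟨h1, h2, h3⟩ := hg
  constructor
  · have := h1 u₀ x
    rw [h2] at this
    rw [this, hx.1]
  · have := h1 x v₀
    rw [h3] at this
    rw [this, hx.2]

/-- extension of an isometry of `Wsub` by the identity on the hyperbolic pair -/
def extW (B : LinearMap.BilinForm F V) (hB : B.IsAlt) (u₀ v₀ : V) (h0 : B u₀ v₀ = 1)
    (h : Wsub B u₀ v₀ →ₗ[F] Wsub B u₀ v₀) : V →ₗ[F] V :=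
  (B.flip v₀).smulRight u₀ + (B u₀).smulRight v₀ +
    (Wsub B u₀ v₀).subtype ∘ₗ h ∘ₗ projW B hB u₀ v₀ h0

theorem extW_apply (B : LinearMap.BilinForm F V) (hB : B.IsAlt) (u₀ v₀ : V) (h0 : B u₀ v₀ = 1)
    (h : Wsub B u₀ v₀ →ₗ[F] Wsub B u₀ v₀) (x : V) :
    extW B hB u₀ v₀ h0 h x = B x v₀ • u₀ + B u₀ x • v₀ + (h (projW B hB u₀ v₀ h0 x) : V) := by
  simp [extW]

theorem extW_mem {B : LinearMap.BilinForm F V} (hB : B.IsAlt) (u₀ v₀ : V) (h0 : B u₀ v₀ = 1)
    (h : Wsub B u₀ v₀ →ₗ[F] Wsub B u₀ v₀) (hh : h ∈ Isom (B.restrict (Wsub B u₀ v₀))) :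
    extW B hB u₀ v₀ h0 h ∈ Stab B u₀ v₀ := by
  have h1 : B u₀ u₀ = 0 := hB.self_eq_zero u₀
  have h2 : B v₀ v₀ = 0 := hB.self_eq_zero v₀
  refine ⟨?_, ?_, ?_⟩
  · intro x y
    rw [extW_apply, extW_apply, expand hB h0 _ _ _ _ _ _ (h _).2 (h _).2]
    have h3 := hh (projW B hB u₀ v₀ h0 x) (projW B hB u₀ v₀ h0 y)
    rw [restr_apply, restr_apply] at h3
    rw [h3, ← expand hB h0 _ _ _ _ _ _ (projW B hB u₀ v₀ h0 x).2 (projW B hB u₀ v₀ h0 y).2,
      decomp, decomp]
  · rw [extW_apply]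
    have : projW B hB u₀ v₀ h0 u₀ = 0 := by
      apply Subtype.ext
      rw [projW_coe, h0, h1]
      simp
    rw [this, map_zero, h0, h1]
    simp
  · rw [extW_apply]
    have : projW B hB u₀ v₀ h0 v₀ = 0 := by
      apply Subtype.ext
      rw [projW_coe, h0, h2]
      simp
    rw [this, map_zero, h0, h2]
    simp

theorem card_stab {B : LinearMap.BilinForm F V} (hB : B.IsAlt) (u₀ v₀ : V) (h0 : B u₀ v₀ = 1) :
    Nat.card (Stab B u₀ v₀) = Nat.card (Isom (B.restrict (Wsub B u₀ v₀))) := by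
  refine Nat.card_congr ?_
  exact
    { toFun := fun g => ⟨g.1.restrict (stab_maps g.2), by
        intro x y
        rw [restr_apply, restr_apply, LinearMap.coe_restrict_apply,
          LinearMap.coe_restrict_apply]
        exact g.2.1 x y⟩
      invFun := fun h => ⟨extW B hB u₀ v₀ h0 h.1, extW_mem hB u₀ v₀ h0 h.1 h.2⟩
      left_inv := by
        rintro ⟨g, hg1, hg2, hg3⟩
        apply Subtype.ext
        apply LinearMap.ext
        intro x
        show extW B hB u₀ v₀ h0 (g.restrict (stab_maps ⟨hg1, hg2, hg3⟩)) x = g x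
        rw [extW_apply, LinearMap.coe_restrict_apply]
        conv_rhs => rw [← decomp B hB u₀ v₀ h0 x]
        rw [map_add, map_add, map_smul, map_smul, hg2, hg3]
      right_inv := by
        rintro ⟨h, hh⟩
        apply Subtype.ext
        apply LinearMap.ext
        intro w
        apply Subtype.ext
        show ((extW B hB u₀ v₀ h0 h).restrict (stab_maps (extW_mem hB u₀ v₀ h0 h hh)) w : V) = h w
        rw [LinearMap.coe_restrict_apply, extW_apply, projW_of_mem, (mem_Wsub.mp w.2).1,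
          (mem_Wsub.mp w.2).2]
        simp }

end SpCard

/-- The number of isometries of a nondegenerate alternating form on a space with `q ^ (2 * m)`
elements over the field with `q` elements. -/
theorem card_isom {F : Type u} [Field F] [Fintype F] (q : ℕ) (hq : Fintype.card F = q) :
    ∀ (m : ℕ) (V : Type v) [AddCommGroup V] [Module F V] [Finite V]
      (B : LinearMap.BilinForm F V), B.IsAlt → SepL B → Nat.card V = q ^ (2 * m) →
      Nat.card (Isom B) = q ^ (m ^ 2) * ∏ i ∈ Finset.range m, (q ^ (2 * (i + 1)) - 1) := by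
  have hq1 : 1 < q := hq ▸ Fintype.one_lt_card
  have hFq : Nat.card F = q := by rw [Nat.card_eq_fintype_card, hq]
  intro m
  induction m with
  | zero =>
    intro V _ _ _ B hB hnd hcard
    simp only [mul_zero, pow_zero] at hcard
    have hsub : Subsingleton V := (Nat.card_eq_one_iff_unique.mp hcard).1
    have hu : Unique (Isom B) :=
      { default := ⟨1, fun x y => rfl⟩
        uniq := fun g => Subtype.ext (LinearMap.ext fun x => Subsingleton.elim _ _) }
    simp
  | succ m ih =>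
    intro V _ _ _ B hB hnd hcard
    have hV1 : 1 < Nat.card V := by
      rw [hcard]
      exact Nat.one_lt_pow (by omega) hq1
    have hnt : Nontrivial V := (Finite.one_lt_card_iff_nontrivial).mp hV1
    obtain ⟨u₀, hu₀⟩ := exists_ne (0 : V)
    obtain ⟨v₀, h0⟩ := exists_partner hnd u₀ hu₀
    have hW : Nat.card (Wsub B u₀ v₀) = q ^ (2 * m) := by
      have h1 := card_decomp hB u₀ v₀ h0
      rw [hcard, hFq] at h1
      have h2 : q ^ (2 * (m + 1)) = q * q * q ^ (2 * m) := by ring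
      rw [h2] at h1
      exact (Nat.eq_of_mul_eq_mul_left (by positivity) h1).symm
    have hI := ih (Wsub B u₀ v₀) (B.restrict (Wsub B u₀ v₀)) (isAlt_restrict hB _)
      (sepL_restrict hB hnd u₀ v₀ h0) hW
    have hX := card_pairs (F := F) hnd
    rw [hcard, hFq] at hX
    have hX' : Nat.card {p : V × V // B p.1 p.2 = 1} =
        (q ^ (2 * (m + 1)) - 1) * q ^ (2 * m + 1) := by
      have h2 : q ^ (2 * (m + 1)) = q * q ^ (2 * m + 1) := by ring
      have h3 : (q ^ (2 * (m + 1)) - 1) * q ^ (2 * (m + 1)) =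
          q * ((q ^ (2 * (m + 1)) - 1) * q ^ (2 * m + 1)) := by
        conv_lhs => rw [h2]
        rw [← h2]
        ring
      rw [h3] at hX
      exact Nat.eq_of_mul_eq_mul_left (by omega) hX
    rw [card_isom_eq hB u₀ v₀ h0, card_stab hB u₀ v₀ h0, hI, hX', Finset.prod_range_succ]
    have h4 : q ^ ((m + 1) ^ 2) = q ^ (m ^ 2) * q ^ (2 * m + 1) := by
      rw [← pow_add]
      congr 1
      ring
    rw [h4]
    ring

end Cfsg.Agent.Lib.Helper6
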